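import Cfsg.Agent.Lib.SympMax.Basic
import Mathlib

/-!
The unipotent radical of the stabiliser of a point in the symplectic group, in characteristic two.
-/

set_option autoImplicit false

namespace Cfsg.Agent.Lib.LargeTransvection

open Matrix Cfsg.Agent.Lib.Forms Cfsg.Agent.Lib.SympMax

variable {F : Type*} [Field F] {m : ℕ}

local notation "Vs" => (Fin m ⊕ Fin m → F)
local notation "GLs" => GL (Fin m ⊕ Fin m) F
local notation "B" => Cfsg.sympForm m F

/-- A group element acting on a vector. -/
def act (g : GLs) (v : Vs) : Vs := (g : Matrix (Fin m ⊕ Fin m) (Fin m ⊕ Fin m) F) *ᵥ v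

theorem act_mul (g h : GLs) (v : Vs) : act (g * h) v = act g (act h v) := by
  simp [act, mulVec_mulVec]

@[simp] theorem act_one (v : Vs) : act (1 : GLs) v = v := by simp [act]

@[simp] theorem act_inv_self (g : GLs) (v : Vs) : act g⁻¹ (act g v) = v := by
  rw [← act_mul, inv_mul_cancel, act_one]

@[simp] theorem act_self_inv (g : GLs) (v : Vs) : act g (act g⁻¹ v) = v := by
  rw [← act_mul, mul_inv_cancel, act_one]

theorem act_ext {g h : GLs} (e : ∀ v, act g v = act h v) : g = h :=
  Units.ext (Matrix.ext_iff_mulVec.mpr e)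

theorem act_add (g : GLs) (u v : Vs) : act g (u + v) = act g u + act g v := mulVec_add _ _ _

theorem act_smul (g : GLs) (c : F) (v : Vs) : act g (c • v) = c • act g v := mulVec_smul _ _ _

theorem act_zero (g : GLs) : act g (0 : Vs) = 0 := mulVec_zero _

theorem act_inj (g : GLs) {u v : Vs} (h : act g u = act g v) : u = v := by
  simpa using congrArg (act g⁻¹) h

theorem act_ne_zero (g : GLs) {v : Vs} (hv : v ≠ 0) : act g v ≠ 0 := fun e =>
  hv (act_inj g (e.trans (act_zero g).symm))

@[simp] theorem act_T (v x : Vs) (c : F) : act (T v c) x = x + (c * B x v) • v := T_mulVec v x c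

theorem act_form {g : GLs} (hg : g ∈ Cfsg.spGL m F) (u v : Vs) : B (act g u) (act g v) = B u v :=
  apply_sp hg u v

theorem act_form_left {g : GLs} (hg : g ∈ Cfsg.spGL m F) (u v : Vs) :
    B (act g u) v = B u (act g⁻¹ v) := by
  conv_lhs => rw [← act_self_inv g v]
  exact act_form hg _ _

section CharTwo

variable [CharP F 2]

theorem B_comm (u v : Vs) : B u v = B v u := by
  rw [sympForm_comm, CharTwo.neg_eq]

omit [CharP F 2] in
theorem B_self (v : Vs) : B v v = 0 := sympForm_self v

theorem two_zero : (2 : F) = 0 := CharTwo.two_eq_zero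

theorem add_self_vec (v : Vs) : v + v = 0 := by
  ext i; exact CharTwo.add_self_eq_zero _

omit [CharP F 2] in
theorem zero_B (v : Vs) : B 0 v = 0 := by
  rw [← sympBilin_apply, map_zero, LinearMap.zero_apply]

omit [CharP F 2] in
theorem B_zero (v : Vs) : B v 0 = 0 := by
  rw [← sympBilin_apply, map_zero]

omit [CharP F 2] in
theorem exists_eq_one {u : Vs} (hu : u ≠ 0) : ∃ v, B v u = 1 := by
  obtain ⟨v, hv⟩ := exists_form_ne hu
  refine ⟨(B v u)⁻¹ • v, ?_⟩
  rw [form_smul_left, inv_mul_cancel₀]
  rwa [sympForm_comm, neg_ne_zero]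

/-- The element `x ↦ x + B(x,a) u + B(x,u) a + β B(x,a) a`. -/
noncomputable def el (a u : Vs) (β : F) : GLs := E a u * T a β

omit [CharP F 2] in
theorem el_mem (a u : Vs) (β : F) : el a u β ∈ Cfsg.spGL m F :=
  mul_mem (E_mem a u) (T_mem a β)

theorem act_el {a u : Vs} (h : B a u = 0) (β : F) (x : Vs) :
    act (el a u β) x = x + B x a • u + (B x u + β * B x a) • a := by
  have h' : B u a = 0 := by rw [B_comm, h]
  have hE : ∀ y : Vs, act (E a u) y = y + B y a • u + B y u • a := E_mulVec h
  rw [el, act_mul, act_T, hE]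
  simp only [form_add_left, form_smul_left, sympForm_self, h]
  match_scalars <;> ring

theorem el_mul {a u u' : Vs} (h : B a u = 0) (h' : B a u' = 0) (β β' : F) :
    el a u β * el a u' β' = el a (u + u') (β + β' + B u u') := by
  refine act_ext fun x => ?_
  have e1 : B u a = 0 := by rw [B_comm, h]
  have e2 : B u' a = 0 := by rw [B_comm, h']
  have e3 : B a (u + u') = 0 := by rw [form_add_right, h, h', add_zero]
  rw [act_mul, act_el h', act_el h, act_el e3]
  simp only [form_add_left, form_add_right, form_smul_left, sympForm_self, h, h', e1, e2,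
    B_comm u u']
  match_scalars <;> grind

theorem el_zero_zero (a : Vs) : el a 0 (0 : F) = 1 := by
  refine act_ext fun x => ?_
  rw [act_el (B_zero a), act_one, B_zero]
  simp

theorem el_zero (a : Vs) (β : F) : el a 0 β = T a β := by
  refine act_ext fun x => ?_
  rw [act_el (B_zero a), act_T, B_zero]
  match_scalars <;> ring

theorem el_mul_self {a u : Vs} (h : B a u = 0) (β : F) : el a u β * el a u β = 1 := by
  rw [el_mul h h, add_self_vec, CharTwo.add_self_eq_zero, sympForm_self, add_zero, el_zero_zero]

theorem el_inv {a u : Vs} (h : B a u = 0) (β : F) : (el a u β)⁻¹ = el a u β :=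
  inv_eq_of_mul_eq_one_right (el_mul_self h β)

theorem el_add_smul {a u : Vs} (h : B a u = 0) (t β : F) : el a (u + t • a) β = el a u β := by
  refine act_ext fun x => ?_
  have e : B a (u + t • a) = 0 := by
    rw [form_add_right, form_smul_right, sympForm_self, h, mul_zero, add_zero]
  rw [act_el e, act_el h]
  simp only [form_add_right, form_smul_right]
  match_scalars <;> grind

theorem el_smul {a u : Vs} (h : B a u = 0) (t β : F) :
    el (t • a) u β = el a (t • u) (t * t * β) := by
  refine act_ext fun x => ?_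
  have e1 : B (t • a) u = 0 := by rw [form_smul_left, h, mul_zero]
  have e2 : B a (t • u) = 0 := by rw [form_smul_right, h, mul_zero]
  rw [act_el e1, act_el e2]
  simp only [form_smul_right]
  match_scalars <;> ring

theorem conj_el {g : GLs} (hg : g ∈ Cfsg.spGL m F) {a u : Vs} (h : B a u = 0) (β : F) :
    g * el a u β * g⁻¹ = el (act g a) (act g u) β := by
  rw [mul_inv_eq_iff_eq_mul]
  refine act_ext fun x => ?_
  have e : B (act g a) (act g u) = 0 := by rw [act_form hg, h]
  rw [act_mul, act_mul, act_el h, act_el e, act_form hg, act_form hg, act_add, act_add,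
    act_smul, act_smul]

theorem el_inj {a u u' : Vs} (ha : a ≠ 0) (h : B a u = 0) (h' : B a u' = 0) {β β' : F}
    (e : el a u β = el a u' β') : ∃ t : F, u' = u + t • a := by
  obtain ⟨x, hx⟩ := exists_eq_one ha
  have e1 := congrArg (fun g => act g x) e
  simp only [act_el h, act_el h', hx, one_smul, mul_one, add_assoc, add_right_inj] at e1
  refine ⟨(B x u + β) - (B x u' + β'), ?_⟩
  rw [sub_smul]
  rw [← add_sub_assoc, e1]
  abel

/-- The projection onto the vectors perpendicular to `a` and `b`. -/
def proj (a b x : Vs) : Vs := x + B x b • a + B x a • b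

omit [CharP F 2] in
theorem proj_add (a b x y : Vs) : proj a b (x + y) = proj a b x + proj a b y := by
  simp only [proj, form_add_left, add_smul]
  abel

omit [CharP F 2] in
theorem proj_smul (a b : Vs) (t : F) (x : Vs) : proj a b (t • x) = t • proj a b x := by
  simp only [proj, form_smul_left, smul_add, smul_smul]

variable {a b : Fin m ⊕ Fin m → F}

theorem B_proj_left (hab : B a b = 1) (x : Vs) : B a (proj a b x) = 0 := by
  rw [proj, form_add_right, form_add_right, form_smul_right, form_smul_right, sympForm_self, hab,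
    B_comm a x]
  grind

theorem B_proj_right (hab : B a b = 1) (x : Vs) : B b (proj a b x) = 0 := by
  rw [proj, form_add_right, form_add_right, form_smul_right, form_smul_right, sympForm_self,
    B_comm b x, B_comm b a, hab]
  grind

theorem proj_of_perp {x : Vs} (h1 : B a x = 0) (h2 : B b x = 0) : proj a b x = x := by
  rw [proj, B_comm x a, B_comm x b, h1, h2]
  simp

theorem proj_self_left (hab : B a b = 1) : proj a b a = 0 := by
  rw [proj, sympForm_self, hab, one_smul, zero_smul, add_zero, add_self_vec]

theorem proj_self_right (hab : B a b = 1) : proj a b b = 0 := by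
  rw [proj, sympForm_self, B_comm b a, hab, one_smul, zero_smul, add_zero, add_self_vec]

theorem proj_swap (x : Vs) : proj b a x = proj a b x := by
  simp only [proj]; abel

/-- Every vector in the coordinates given by a hyperbolic pair. -/
theorem eq_proj_add (x : Vs) : x = proj a b x + B x b • a + B x a • b := by
  rw [proj]
  match_scalars <;> grind

theorem B_proj_proj (hab : B a b = 1) (x y : Vs) :
    B (proj a b x) (proj a b y) = B x y + B x a * B y b + B x b * B y a := by
  simp only [proj, form_add_left, form_add_right, form_smul_left, form_smul_right, sympForm_self,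
    hab, B_comm b a, B_comm a y, B_comm b y]
  grind

/-- Every nonzero vector of a perpendicular plane has a partner there. -/
theorem exists_partner (hab : B a b = 1) {u : Vs} (hu : u ≠ 0) (h1 : B a u = 0)
    (h2 : B b u = 0) : ∃ v, B a v = 0 ∧ B b v = 0 ∧ B v u = 1 := by
  obtain ⟨v, hv⟩ := exists_eq_one hu
  refine ⟨proj a b v, B_proj_left hab v, B_proj_right hab v, ?_⟩
  rw [proj, form_add_left, form_add_left, form_smul_left, form_smul_left, h1, h2, hv]
  ring

/-- The coordinates along a hyperbolic pair. -/
noncomputable def coord (a b : Vs) : Vs →ₗ[F] F × F :=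
  ((sympBilin m F).flip a).prod ((sympBilin m F).flip b)

omit [CharP F 2] in
theorem mem_ker_coord {x : Vs} : x ∈ LinearMap.ker (coord a b) ↔ B x a = 0 ∧ B x b = 0 := by
  simp [coord, LinearMap.mem_ker]

theorem finrank_ker_coord (hab : B a b = 1) :
    Module.finrank F (LinearMap.ker (coord a b)) = 2 * m - 2 := by
  have hs : LinearMap.range (coord a b) = ⊤ := by
    refine eq_top_iff.2 fun p _ => ⟨p.1 • b + p.2 • a, ?_⟩
    simp [coord, hab, B_comm b a, sympForm_self]
  have h := (coord a b).finrank_range_add_finrank_ker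
  rw [hs, finrank_top, Module.finrank_prod, Module.finrank_self,
    Module.finrank_fintype_fun_eq_card, Fintype.card_sum, Fintype.card_fin] at h
  omega

theorem exists_perp_ne_zero (hm : 2 ≤ m) (hab : B a b = 1) :
    ∃ u, u ≠ 0 ∧ B a u = 0 ∧ B b u = 0 := by
  have h : LinearMap.ker (coord a b) ≠ ⊥ := fun e => by
    have := finrank_ker_coord hab
    rw [e, finrank_bot] at this
    omega
  obtain ⟨u, hu, hu0⟩ := Submodule.exists_mem_ne_zero_of_ne_bot h
  obtain ⟨e1, e2⟩ := mem_ker_coord.1 hu
  exact ⟨u, hu0, by rwa [B_comm], by rwa [B_comm]⟩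

/-- Two vectors of a perpendicular space are told apart inside it. -/
theorem exists_sep_pair (hab : B a b = 1) {u w : Vs} (hu1 : B a u = 0) (hu2 : B b u = 0)
    (hw0 : w ≠ 0) (hw1 : B a w = 0) (hw2 : B b w = 0) (hne : ∀ t : F, u ≠ t • w) :
    ∃ v, B a v = 0 ∧ B b v = 0 ∧ B v w = 0 ∧ B v u = 1 := by
  obtain ⟨z, hz1, hz2, hzw⟩ := exists_partner hab hw0 hw1 hw2
  have hne' : u + B z u • w ≠ 0 := fun e => hne (B z u) (by
    have h := congrArg (· + B z u • w) e
    simpa [add_assoc, add_self_vec] using h)
  obtain ⟨v, hv1, hv2, hv⟩ := exists_partner hab hne'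
    (by rw [form_add_right, form_smul_right, hu1, hw1, mul_zero, add_zero])
    (by rw [form_add_right, form_smul_right, hu2, hw2, mul_zero, add_zero])
  rw [form_add_right, form_smul_right] at hv
  refine ⟨v + B v w • z, ?_, ?_, ?_, ?_⟩
  · rw [form_add_right, form_smul_right, hv1, hz1, mul_zero, add_zero]
  · rw [form_add_right, form_smul_right, hv2, hz2, mul_zero, add_zero]
  · rw [form_add_left, form_smul_left, hzw, mul_one, CharTwo.add_self_eq_zero]
  · rw [form_add_left, form_smul_left]; linear_combination hv

/-! ### Covered points -/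

/-- Every element of the radical at `c` lies in `L` up to a transvection. -/
def Cov (L : Subgroup GLs) (c : Vs) : Prop := ∀ u, B c u = 0 → ∃ β : F, el c u β ∈ L

variable {L : Subgroup (GL (Fin m ⊕ Fin m) F)}

theorem Cov.map (hL : L ≤ Cfsg.spGL m F) {c : Vs} (hc : Cov L c) {g : GLs} (hg : g ∈ L) :
    Cov L (act g c) := fun u hu => by
  have h : B c (act g⁻¹ u) = 0 := by rw [← act_form_left (hL hg), hu]
  obtain ⟨β, hβ⟩ := hc _ h
  refine ⟨β, ?_⟩
  have := conj_el (hL hg) h β
  rw [act_self_inv] at this
  rw [← this]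
  exact L.mul_mem (L.mul_mem hg hβ) (L.inv_mem hg)

theorem Cov.smul {c : Vs} (hc : Cov L c) (t : F) : Cov L (t • c) := fun u hu => by
  by_cases ht : t = 0
  · refine ⟨0, ?_⟩
    have : el (t • c) u (0 : F) = 1 := act_ext fun x => by
      rw [ht, zero_smul, act_el (zero_B u), B_zero]; simp
    rw [this]; exact L.one_mem
  rw [form_smul_left] at hu
  have hu' : B c u = 0 := (mul_eq_zero.1 hu).resolve_left ht
  obtain ⟨β, hβ⟩ := hc (t • u) (by rw [form_smul_right, hu', mul_zero])
  refine ⟨β / (t * t), ?_⟩
  rw [el_smul hu', mul_div_cancel₀ _ (mul_ne_zero ht ht)]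
  exact hβ

omit [CharP F 2] in
/-- The vectors with a covered point that satisfy an invariant property span. -/
theorem exists_partner_mem
    (hirr : ∀ W : Submodule F Vs, (∀ g ∈ L, ∀ w ∈ W, act g w ∈ W) → W = ⊥ ∨ W = ⊤)
    (P : Vs → Prop) (hPmap : ∀ g ∈ L, ∀ c, P c → P (act g c))
    (hPsmul : ∀ t : F, t ≠ 0 → ∀ c, P c → P (t • c)) {c : Vs} (hc0 : c ≠ 0) (hc : P c) :
    ∃ d, P d ∧ B c d = 1 := by
  let W := Submodule.span F {d | P d}
  have hinv : ∀ g ∈ L, ∀ w ∈ W, act g w ∈ W := by
    intro g hg w hw
    induction hw using Submodule.span_induction with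
    | mem x hx => exact Submodule.subset_span (hPmap g hg x hx)
    | zero => rw [act_zero]; exact W.zero_mem
    | add x y _ _ hx hy => rw [act_add]; exact W.add_mem hx hy
    | smul t x _ hx => rw [act_smul]; exact W.smul_mem t hx
  have hcW : c ∈ W := Submodule.subset_span hc
  rcases hirr W hinv with h | h
  · rw [h, Submodule.mem_bot] at hcW; exact absurd hcW hc0
  by_contra hno
  push Not at hno
  obtain ⟨x, hx⟩ := exists_form_ne hc0
  refine hx ?_
  have hle : W ≤ LinearMap.ker (sympBilin m F c) := by
    refine Submodule.span_le.2 fun d hd => ?_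
    rw [SetLike.mem_coe, LinearMap.mem_ker, sympBilin_apply]
    by_contra hne
    refine hno _ (hPsmul _ (inv_ne_zero hne) d hd) ?_
    rw [form_smul_right, inv_mul_cancel₀ hne]
  have hxW : x ∈ W := h ▸ Submodule.mem_top
  simpa using hle hxW

end CharTwo

end Cfsg.Agent.Lib.LargeTransvection
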