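import Cfsg.Agent.Lib.LargeTransvection.Moves
import Mathlib

/-!
Quadratic forms polarising to the symplectic form and the radical elements they fix.
-/

set_option autoImplicit false

namespace Cfsg.Agent.Lib.LargeTransvection

open Matrix Cfsg.Agent.Lib.Forms Cfsg.Agent.Lib.SympMax

variable {F : Type*} [Field F] [CharP F 2] {m : ℕ}

local notation "Vs" => (Fin m ⊕ Fin m → F)
local notation "GLs" => GL (Fin m ⊕ Fin m) F
local notation "B" => Cfsg.sympForm m F

/-- `Q` is a quadratic form with polar form the symplectic form. -/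
structure IsSympQuad (Q : (Fin m ⊕ Fin m → F) → F) : Prop where
  map_add : ∀ x y, Q (x + y) = Q x + Q y + Cfsg.sympForm m F x y
  map_smul : ∀ (t : F) x, Q (t • x) = t * t * Q x

variable {Q R : (Fin m ⊕ Fin m → F) → F} {a b : Fin m ⊕ Fin m → F}

omit [CharP F 2] in
theorem IsSympQuad.map_zero (hQ : IsSympQuad Q) : Q 0 = 0 := by
  have := hQ.map_smul 0 0
  simpa using this

/-- Two forms agreeing on a hyperplane and at one further vector are equal. -/
theorem IsSympQuad.ext_perp (hQ : IsSympQuad Q) (hR : IsSympQuad R) {v : Vs}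
    (h : ∀ x, B a x = 0 → Q x = R x) (hv : B a v ≠ 0) (hQv : Q v = R v) (x : Vs) : Q x = R x := by
  obtain ⟨y, t, hy, rfl⟩ : ∃ (y : Vs) (t : F), B a y = 0 ∧ x = y + t • v :=
    ⟨x + (B a x / B a v) • v, B a x / B a v,
      by rw [form_add_right, form_smul_right, div_mul_cancel₀ _ hv, CharTwo.add_self_eq_zero],
      by rw [add_assoc, add_self_vec, add_zero]⟩
  rw [hQ.map_add, hR.map_add, hQ.map_smul, hR.map_smul, h y hy, hQv]

theorem el_preserves (hQ : IsSympQuad Q) (ha : Q a = 0) {u : Vs} (hu : B a u = 0) (x : Vs) :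
    Q (act (el a u (Q u)) x) = Q x := by
  rw [act_el hu, hQ.map_add, hQ.map_add, hQ.map_smul, hQ.map_smul, ha, form_add_left,
    form_smul_left, form_smul_right, form_smul_right, form_smul_right, B_comm u a, hu]
  grind

/-- The form preserved subgroup generated by the radical elements at a pair. -/
def pairGroup (Q : (Fin m ⊕ Fin m → F) → F) (a b : Fin m ⊕ Fin m → F) :
    Subgroup (GL (Fin m ⊕ Fin m) F) :=
  Subgroup.closure {g | ∃ u, Cfsg.sympForm m F a u = 0 ∧ Cfsg.sympForm m F b u = 0 ∧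
    (g = el a u (Q u) ∨ g = el b u (Q u))}

omit [CharP F 2] in
theorem el_left_mem {u : Vs} (h1 : B a u = 0) (h2 : B b u = 0) :
    el a u (Q u) ∈ pairGroup Q a b :=
  Subgroup.subset_closure ⟨u, h1, h2, Or.inl rfl⟩

omit [CharP F 2] in
theorem el_right_mem {u : Vs} (h1 : B a u = 0) (h2 : B b u = 0) :
    el b u (Q u) ∈ pairGroup Q a b :=
  Subgroup.subset_closure ⟨u, h1, h2, Or.inr rfl⟩

omit [CharP F 2] in
theorem pairGroup_le_spGL : pairGroup Q a b ≤ Cfsg.spGL m F := by
  refine (Subgroup.closure_le _).2 ?_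
  rintro _ ⟨u, -, -, rfl | rfl⟩ <;> exact el_mem _ _ _

theorem pairGroup_preserves (hQ : IsSympQuad Q) (ha : Q a = 0) (hb : Q b = 0) {g : GLs}
    (hg : g ∈ pairGroup Q a b) (x : Vs) : Q (act g x) = Q x := by
  induction hg using Subgroup.closure_induction generalizing x with
  | mem g hg =>
    obtain ⟨u, h1, h2, rfl | rfl⟩ := hg
    · exact el_preserves hQ ha h1 x
    · exact el_preserves hQ hb h2 x
  | one => rw [act_one]
  | mul g h _ _ hg hh => rw [act_mul, hg, hh]
  | inv g _ hg =>
    conv_rhs => rw [← act_self_inv g x]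
    rw [hg]

theorem nEl_mem_pairGroup (hQ : IsSympQuad Q) {u : Vs} (h1 : B a u = 0) (h2 : B b u = 0)
    (hu : Q u ≠ 0) : nEl a b u (Q u) ∈ pairGroup Q a b := by
  refine nEl_mem (el_left_mem h1 h2) ?_
  have h := el_right_mem (Q := Q) (a := a) (b := b) (u := (Q u)⁻¹ • u)
    (by rw [form_smul_right, h1, mul_zero]) (by rw [form_smul_right, h2, mul_zero])
  rwa [hQ.map_smul, mul_assoc, inv_mul_cancel₀ hu, mul_one] at h

/-- Either end of the pair clears the perpendicular part. -/
theorem exists_clear (hab : B a b = 1) (v : Vs) :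
    ∃ g ∈ pairGroup Q a b, proj a b (act g v) = 0 ∨ (B v a = 0 ∧ B v b = 0 ∧ g = 1) := by
  have hba : B b a = 1 := by rw [B_comm, hab]
  by_cases h1 : B v a = 0
  · by_cases h2 : B v b = 0
    · exact ⟨1, one_mem _, Or.inr ⟨h1, h2, rfl⟩⟩
    · let u := (B v b)⁻¹ • proj a b v
      have hu1 : B a u = 0 := by rw [form_smul_right, B_proj_left hab, mul_zero]
      have hu2 : B b u = 0 := by rw [form_smul_right, B_proj_right hab, mul_zero]
      refine ⟨_, el_right_mem hu1 hu2, Or.inl ?_⟩
      simp only [act_el hu2, proj_add, proj_smul, proj_self_right hab, proj_of_perp hu1 hu2,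
        smul_zero, add_zero]
      simp only [u, smul_inv_smul₀ h2, add_self_vec]
  · let u := (B v a)⁻¹ • proj a b v
    have hu1 : B a u = 0 := by rw [form_smul_right, B_proj_left hab, mul_zero]
    have hu2 : B b u = 0 := by rw [form_smul_right, B_proj_right hab, mul_zero]
    refine ⟨_, el_left_mem hu1 hu2, Or.inl ?_⟩
    simp only [act_el hu1, proj_add, proj_smul, proj_self_left hab, proj_of_perp hu1 hu2,
      smul_zero, add_zero]
    simp only [u, smul_inv_smul₀ h1, add_self_vec]

/-- Singular vectors are moved to the ends of the pair. -/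
theorem exists_move_singular (hQ : IsSympQuad Q) (ha : Q a = 0) (hb : Q b = 0) (hab : B a b = 1)
    {v : Vs} (hv : v ≠ 0) (hQv : Q v = 0) :
    ∃ g ∈ pairGroup Q a b, ∃ t : F, t ≠ 0 ∧ (act g v = t • a ∨ act g v = t • b) := by
  have hba : B b a = 1 := by rw [B_comm, hab]
  -- a vector with a zero perpendicular part
  have hend : ∀ g ∈ pairGroup Q a b, ∀ w : Vs, w = act g v → proj a b w = 0 →
      ∃ g ∈ pairGroup Q a b, ∃ t : F, t ≠ 0 ∧ (act g v = t • a ∨ act g v = t • b) := by
    intro g hg w hw hp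
    have e := eq_proj_add (a := a) (b := b) w
    rw [hp, zero_add] at e
    have hQw : Q w = 0 := by rw [hw, pairGroup_preserves hQ ha hb hg, hQv]
    rw [e, hQ.map_add, hQ.map_smul, hQ.map_smul, ha, hb, form_smul_left, form_smul_right, hab] at hQw
    simp at hQw
    have hw0 : w ≠ 0 := by rw [hw]; exact act_ne_zero g hv
    rcases hQw with h | h
    · rw [h, zero_smul, zero_add] at e
      exact ⟨g, hg, _, fun h' => hw0 (e.trans (by rw [h', zero_smul])), Or.inr (hw.symm.trans e)⟩
    · rw [h, zero_smul, add_zero] at e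
      exact ⟨g, hg, _, fun h' => hw0 (e.trans (by rw [h', zero_smul])), Or.inl (hw.symm.trans e)⟩
  obtain ⟨g, hg, h | ⟨h1, h2, rfl⟩⟩ := exists_clear (Q := Q) hab v
  · exact hend g hg _ rfl h
  have h1' : B a v = 0 := by rw [B_comm, h1]
  have h2' : B b v = 0 := by rw [B_comm, h2]
  obtain ⟨z, hza, hzb, hzv⟩ := exists_partner hab hv h1' h2'
  have hk := el_left_mem (Q := Q) hza hzb
  obtain ⟨g, hg, h | ⟨-, h4, -⟩⟩ :=
    exists_clear (Q := Q) hab (act (el a z (Q z)) v)
  · exact hend (g * el a z (Q z)) (mul_mem hg hk) _ (act_mul g _ v).symm h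
  · rw [act_el_perp hza _ h1', B_comm v z, hzv, one_smul, form_add_left, h2, zero_add, hab] at h4
    exact absurd h4 one_ne_zero

end Cfsg.Agent.Lib.LargeTransvection
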