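import Cfsg.Agent.Lib.LargeTransvection.NoTrans
import Cfsg.Agent.Lib.LargeTransvection.Quad
import Mathlib

/-!
The invariant quadratic form of a group without transvections at covered points.
-/

set_option autoImplicit false

namespace Cfsg.Agent.Lib.LargeTransvection

open Matrix Cfsg.Agent.Lib.Forms Cfsg.Agent.Lib.SympMax

variable {F : Type*} [Field F] [CharP F 2] [Finite F] {m : ℕ}

local notation "Vs" => (Fin m ⊕ Fin m → F)
local notation "GLs" => GL (Fin m ⊕ Fin m) F
local notation "B" => Cfsg.sympForm m F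

/-- No transvections, and the parameters at the two ends of a pair agree. -/
structure Agree (L : Subgroup (GL (Fin m ⊕ Fin m) F)) : Prop where
  two_le : 2 ≤ m
  noTrans : NoTrans L
  agree : ∀ a b u : Fin m ⊕ Fin m → F, CovPair L a b → Cfsg.sympForm m F a u = 0 →
    Cfsg.sympForm m F b u = 0 → par L b u = par L a u

/-- The exceptional configuration in dimension four over two elements. -/
def AnisoExc (L : Subgroup (GL (Fin m ⊕ Fin m) F)) : Prop :=
  m = 2 ∧ (¬ ∃ k : F, k ≠ 0 ∧ k ≠ 1) ∧ ∃ a b : Fin m ⊕ Fin m → F, CovPair L a b ∧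
    (∀ u, u ≠ 0 → Cfsg.sympForm m F a u = 0 → Cfsg.sympForm m F b u = 0 → par L a u = 1) ∧
    Cov L (a + b)

/-- The form of a pair. -/
noncomputable def pairForm (L : Subgroup (GL (Fin m ⊕ Fin m) F)) (a b x : Fin m ⊕ Fin m → F) : F :=
  Cfsg.sympForm m F x a * Cfsg.sympForm m F x b + par L a (proj a b x)

variable {L : Subgroup (GL (Fin m ⊕ Fin m) F)} {a b c u v : Fin m ⊕ Fin m → F}
variable (hA : Agree L)
include hA

theorem pairForm_isSympQuad (hp : CovPair L a b) : IsSympQuad (pairForm L a b) where
  map_add x y := by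
    rw [pairForm, pairForm, pairForm, proj_add, par_add hA.noTrans hp.left_ne hp.cov_left
      (B_proj_left hp.form x) (B_proj_left hp.form y), B_proj_proj hp.form, form_add_left,
      form_add_left]
    grind
  map_smul t x := by
    rw [pairForm, pairForm, proj_smul, pair_homog hA.noTrans hp (B_proj_left hp.form x),
      form_smul_left, form_smul_left]
    ring

omit [Finite F] in
theorem pairForm_left (hp : CovPair L a b) {x : Vs} (hx : B a x = 0) :
    pairForm L a b x = par L a x := by
  have hxa : B x a = 0 := by rw [B_comm, hx]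
  rw [pairForm, hxa, zero_mul, zero_add,
    show proj a b x = x + B x b • a by simp [proj, hxa],
    par_add_smul hA.noTrans hp.left_ne hp.cov_left hx]

omit [Finite F] in
theorem pairForm_symm (hp : CovPair L a b) (x : Vs) : pairForm L b a x = pairForm L a b x := by
  rw [pairForm, pairForm, proj_swap, mul_comm,
    hA.agree a b _ hp (B_proj_left hp.form x) (B_proj_right hp.form x)]

omit [Finite F] in
theorem pairForm_right (hp : CovPair L a b) {x : Vs} (hx : B b x = 0) :
    pairForm L a b x = par L b x := by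
  rw [← pairForm_symm hA hp, pairForm_left hA hp.symm hx]

omit [Finite F] in
theorem pairForm_fst (hp : CovPair L a b) : pairForm L a b a = 0 := by
  rw [pairForm, sympForm_self, zero_mul, proj_self_left hp.form,
    par_zero hA.noTrans hp.left_ne hp.cov_left, add_zero]

omit [Finite F] in
theorem pairForm_snd (hp : CovPair L a b) : pairForm L a b b = 0 := by
  rw [← pairForm_symm hA hp, pairForm_fst hA hp.symm]

omit [Finite F] in
theorem exists_cov_partner (hc0 : c ≠ 0) (hc : Cov L c) : ∃ d, CovPair L c d := by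
  obtain ⟨d, ⟨-, hd⟩, hcd⟩ := exists_partner_mem hA.noTrans.irred (fun c => c ≠ 0 ∧ Cov L c)
    (fun g hg c h => ⟨act_ne_zero g h.1, h.2.map hA.noTrans.le_sp hg⟩)
    (fun t ht c h => ⟨smul_ne_zero ht h.1, h.2.smul t⟩) hc0 ⟨hc0, hc⟩
  exact ⟨d, hc, hd, hcd⟩

theorem par_scale (hc0 : c ≠ 0) (hc : Cov L c) (hu : B c u = 0) {t : F} (ht : t ≠ 0) :
    par L (t • c) u = par L c u := by
  obtain ⟨d, hd⟩ := exists_cov_partner hA hc0 hc
  rw [par_smul_left hA.noTrans hc0 hc hu ht, pair_homog hA.noTrans hd hu,
    mul_div_cancel_left₀ _ (mul_ne_zero ht ht)]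

theorem CovPair.moved (hp : CovPair L a b) (hu1 : B a u = 0) (hu2 : B b u = 0) :
    CovPair L a (b + u + par L a u • a) ∧
      ∀ x, pairForm L a (b + u + par L a u • a) x = pairForm L a b x := by
  have he : act (el a u (par L a u)) b = b + u + par L a u • a := act_el_other hp.form hu1 hu2 _
  have hp' : CovPair L a (b + u + par L a u • a) := ⟨hp.cov_left,
    he ▸ hp.cov_right.map hA.noTrans.le_sp (par_mem hp.cov_left hu1),
    by rw [form_add_right, form_add_right, form_smul_right, sympForm_self, hu1, hp.form]; simp⟩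
  refine ⟨hp', fun x => (pairForm_isSympQuad hA hp').ext_perp (pairForm_isSympQuad hA hp)
    (a := a) (v := b + u + par L a u • a) (fun y hy => by
      rw [pairForm_left hA hp' hy, pairForm_left hA hp hy])
    (by rw [hp'.form]; exact one_ne_zero) ?_ x⟩
  rw [pairForm_snd hA hp', ← he, ← pairForm_left hA hp hu1,
    el_preserves (pairForm_isSympQuad hA hp) (pairForm_fst hA hp) hu1, pairForm_snd hA hp]

theorem singular_generic (hp : CovPair L a b) (hc : Cov L c) (h1 : B a c ≠ 0) (h2 : B b c ≠ 0)
    (h3 : proj a b c ≠ 0) : pairForm L a b c = 0 := by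
  have hc0 : c ≠ 0 := fun e => h1 (by rw [e, B_zero])
  have hpa : CovPair L a ((B a c)⁻¹ • c) :=
    ⟨hp.cov_left, hc.smul _, by rw [form_smul_right, inv_mul_cancel₀ h1]⟩
  have hpb : CovPair L b ((B b c)⁻¹ • c) :=
    ⟨hp.cov_right, hc.smul _, by rw [form_smul_right, inv_mul_cancel₀ h2]⟩
  obtain ⟨z, hza, hzb, hzw⟩ :=
    exists_partner hp.form h3 (B_proj_left hp.form c) (B_proj_right hp.form c)
  rw [proj, form_add_right, form_add_right, form_smul_right, form_smul_right, B_comm z a, hza,
    B_comm z b, hzb, mul_zero, mul_zero, add_zero, add_zero] at hzw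
  set v := b + B b c • z with hv
  have hva : B a v = 1 := by rw [form_add_right, form_smul_right, hza, hp.form]; simp
  have hvb : B b v = 0 := by rw [form_add_right, form_smul_right, hzb, sympForm_self]; simp
  have hvc : B c v = 0 := by
    rw [B_comm, form_add_left, form_smul_left, hzw, mul_one, CharTwo.add_self_eq_zero]
  have hQ : ∀ x, pairForm L a ((B a c)⁻¹ • c) x = pairForm L a b x := by
    refine fun x => (pairForm_isSympQuad hA hpa).ext_perp (pairForm_isSympQuad hA hp) (a := a)
      (v := v) (fun y hy => by rw [pairForm_left hA hpa hy, pairForm_left hA hp hy])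
      (by rw [hva]; exact one_ne_zero) ?_ x
    rw [pairForm_right hA hpa (by rw [form_smul_left, hvc, mul_zero]),
      par_scale hA hc0 hc hvc (inv_ne_zero h1), pairForm_right hA hp hvb,
      ← par_scale hA hc0 hc hvc (inv_ne_zero h2),
      hA.agree b _ v hpb hvb (by rw [form_smul_left, hvc, mul_zero])]
  have h := pairForm_snd hA hpa
  rw [hQ, (pairForm_isSympQuad hA hp).map_smul] at h
  exact (mul_eq_zero.1 h).resolve_left (mul_ne_zero (inv_ne_zero h1) (inv_ne_zero h1))

theorem singular_both (hp : CovPair L a b) (hc : Cov L c) (h1 : B a c ≠ 0) (h2 : B b c ≠ 0) :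
    pairForm L a b c = 0 ∨ AnisoExc L := by
  by_cases h3 : proj a b c = 0
  swap
  · exact Or.inl (singular_generic hA hp hc h1 h2 h3)
  have hγ : B c a ≠ 0 := by rwa [B_comm]
  have hδ : B c b ≠ 0 := by rwa [B_comm]
  have hec := eq_proj_add (a := a) (b := b) c
  rw [h3, zero_add] at hec
  by_cases hex : ∃ u, u ≠ 0 ∧ B a u = 0 ∧ B b u = 0 ∧ par L a u ≠ B c b / B c a
  · obtain ⟨u, hu0, hu1, hu2, hu⟩ := hex
    obtain ⟨hp', hQ⟩ := CovPair.moved hA hp hu1 hu2
    refine Or.inl ?_
    have hcu : B c u = 0 := by
      rw [hec, form_add_left, form_smul_left, form_smul_left, hu1, hu2]; simp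
    rw [← hQ c]
    refine singular_generic hA hp' hc h1 ?_ ?_
    · rw [B_comm, form_add_right, form_add_right, form_smul_right, hcu, add_zero]
      intro e
      refine hu ?_
      rw [eq_div_iff hγ]
      exact (CharTwo.add_eq_zero.1 e).symm
    · have e : proj a (b + u + par L a u • a) c = B c a • u := by
        rw [proj, form_add_right, form_add_right, form_smul_right, hcu]
        conv_lhs => arg 1; arg 1; rw [hec]
        match_scalars <;> grind
      rw [e]
      exact smul_ne_zero hγ hu0
  · push Not at hex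
    set k := B c b / B c a with hk
    have hk0 : k ≠ 0 := div_ne_zero hδ hγ
    have hN := hA.noTrans
    obtain ⟨u, hu0, hu1, hu2⟩ := exists_perp_ne_zero hA.two_le hp.form
    have hq : ¬ ∃ t : F, t ≠ 0 ∧ t ≠ 1 := by
      rintro ⟨t, ht0, ht1⟩
      have h := hex (t • u) (smul_ne_zero ht0 hu0) (by rw [form_smul_right, hu1, mul_zero])
        (by rw [form_smul_right, hu2, mul_zero])
      rw [pair_homog hN hp hu1, hex u hu0 hu1 hu2, mul_eq_right₀ hk0] at h
      refine ht1 (CharTwo.add_eq_zero.1 (pow_eq_zero_iff (n := 2) two_ne_zero |>.1 ?_))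
      grind
    have hone : ∀ x : F, x ≠ 0 → x = 1 := fun x hx => (eq_zero_or_one hq x).resolve_left hx
    have hm : m = 2 := by
      by_contra hm
      have h2m := hA.two_le
      let φ : Vs →ₗ[F] (F × F) × F := (coord a b).prod ((sympBilin m F).flip u)
      obtain ⟨y, hy, hyu⟩ : ∃ y, φ y = 0 ∧ ∀ t : F, y ≠ t • u := by
        by_contra hno
        push Not at hno
        have hle : LinearMap.ker φ ≤ F ∙ u := fun y hy => by
          obtain ⟨t, ht⟩ := hno y hy
          exact Submodule.mem_span_singleton.2 ⟨t, ht.symm⟩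
        have h1 := Submodule.finrank_mono hle
        rw [finrank_span_singleton hu0] at h1
        have h2 := φ.finrank_range_add_finrank_ker
        have h3 := Submodule.finrank_le (LinearMap.range φ)
        rw [Module.finrank_prod, Module.finrank_prod, Module.finrank_self] at h3
        rw [Module.finrank_fintype_fun_eq_card, Fintype.card_sum, Fintype.card_fin] at h2
        omega
      simp only [φ, coord, LinearMap.prod_apply, Function.prod, Prod.mk_eq_zero,
        LinearMap.BilinForm.flip_apply, sympBilin_apply, Pi.prod] at hy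
      obtain ⟨⟨hy1, hy2⟩, hy3⟩ := hy
      rw [B_comm] at hy1 hy2
      have hy0 : y ≠ 0 := fun e => hyu 0 (by rw [e, zero_smul])
      have hne : y + u ≠ 0 := fun e => hyu 1 (by
        have := congrArg (· + u) e
        simpa [add_assoc, add_self_vec] using this)
      have hy1' : B a (y + u) = 0 := by rw [form_add_right, hy1, hu1, add_zero]
      have h := hex _ hne hy1' (by rw [form_add_right, hy2, hu2, add_zero])
      rw [par_add hN hp.left_ne hp.cov_left hy1 hu1, hex y hy0 hy1 hy2, hex u hu0 hu1 hu2, hy3,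
        CharTwo.add_self_eq_zero, add_zero] at h
      exact hk0 h.symm
    refine Or.inr ⟨hm, hq, a, b, hp,
      fun x hx0 hx1 hx2 => by rw [hex x hx0 hx1 hx2]; exact hone k hk0, ?_⟩
    rwa [hec, hone _ hγ, hone _ hδ, one_smul, one_smul] at hc

theorem singular_one (hp : CovPair L a b) (hc : Cov L c) (h1 : B a c ≠ 0) (h2 : B b c = 0) :
    pairForm L a b c = 0 ∨ AnisoExc L := by
  obtain ⟨u, hu1, hu2, hu⟩ :
      ∃ u, B a u = 0 ∧ B b u = 0 ∧ B u c + par L a u * B a c ≠ 0 := by
    by_contra hno
    push Not at hno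
    obtain ⟨x, hx0, hxa, hxb⟩ := exists_perp_ne_zero hA.two_le hp.form
    obtain ⟨y, hya, hyb, hyx⟩ := exists_partner hp.form hx0 hxa hxb
    have e1 := hno x hxa hxb
    have e2 := hno y hya hyb
    have e3 := hno (y + x) (by rw [form_add_right, hya, hxa, add_zero])
      (by rw [form_add_right, hyb, hxb, add_zero])
    rw [form_add_left, par_add hA.noTrans hp.left_ne hp.cov_left hya hxa, hyx] at e3
    exact h1 (by linear_combination e3 - e1 - e2)
  obtain ⟨hp', hQ⟩ := CovPair.moved hA hp hu1 hu2
  rw [← hQ c]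
  refine singular_both hA hp' hc h1 ?_
  rwa [form_add_left, form_add_left, form_smul_left, h2, zero_add]

theorem singular_any (hp : CovPair L a b) (hc : Cov L c) :
    pairForm L a b c = 0 ∨ AnisoExc L := by
  by_cases h1 : B a c = 0 <;> by_cases h2 : B b c = 0
  · by_cases hc0 : c = 0
    · rw [hc0, (pairForm_isSympQuad hA hp).map_zero]; exact Or.inl rfl
    obtain ⟨z, hza, hzb, hzc⟩ := exists_partner hp.form hc0 h1 h2
    obtain ⟨hp', hQ⟩ := CovPair.moved hA hp hza hzb
    rw [← hQ c, ← pairForm_symm hA hp']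
    refine singular_one hA hp'.symm hc ?_ h1
    rw [form_add_left, form_add_left, form_smul_left, h2, h1, hzc]
    simp
  · rw [← pairForm_symm hA hp]
    exact singular_one hA hp.symm hc h2 h1
  · exact singular_one hA hp hc h1 h2
  · exact singular_both hA hp hc h1 h2

omit [Finite F] in
theorem pairGroup_le (hp : CovPair L a b) : pairGroup (pairForm L a b) a b ≤ L := by
  refine (Subgroup.closure_le _).2 ?_
  rintro _ ⟨u, h1, h2, rfl | rfl⟩
  · rw [pairForm_left hA hp h1]; exact par_mem hp.cov_left h1
  · rw [pairForm_right hA hp h2]; exact par_mem hp.cov_right h2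

theorem par_eq_pairForm (hp : CovPair L a b) (hexc : ¬ AnisoExc L) (hc0 : c ≠ 0) (hc : Cov L c)
    (hu : B c u = 0) : par L c u = pairForm L a b u := by
  have hQ := pairForm_isSympQuad hA hp
  have hQc := (singular_any hA hp hc).resolve_right hexc
  obtain ⟨g, hg, t, ht, hgc⟩ := exists_move_singular hQ (pairForm_fst hA hp) (pairForm_snd hA hp)
    hp.form hc0 hQc
  rw [← par_map hA.noTrans hc0 hc hu (pairGroup_le hA hp hg),
    ← pairGroup_preserves hQ (pairForm_fst hA hp) (pairForm_snd hA hp) hg u]
  have hperp : B (act g c) (act g u) = 0 := by rw [act_form (pairGroup_le_spGL hg), hu]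
  rcases hgc with e | e <;> rw [e] at hperp ⊢ <;> rw [form_smul_left] at hperp
  · have h' := (mul_eq_zero.1 hperp).resolve_left ht
    rw [par_scale hA hp.left_ne hp.cov_left h' ht, pairForm_left hA hp h']
  · have h' := (mul_eq_zero.1 hperp).resolve_left ht
    rw [par_scale hA hp.symm.left_ne hp.cov_right h' ht, pairForm_right hA hp h']

/-- The group preserves the form of a pair, outside the exception. -/
theorem preserves_pairForm (hp : CovPair L a b) (hexc : ¬ AnisoExc L) {g : GLs} (hg : g ∈ L)
    (x : Vs) : pairForm L a b (act g x) = pairForm L a b x := by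
  have hQ := pairForm_isSympQuad hA hp
  have hR : IsSympQuad fun x => pairForm L a b (act g x) :=
    ⟨fun x y => by rw [act_add, hQ.map_add, act_form (hA.noTrans.le_sp hg)],
      fun t x => by rw [act_smul, hQ.map_smul]⟩
  refine hR.ext_perp hQ (a := a) (v := b) (fun y hy => ?_)
    (by rw [hp.form]; exact one_ne_zero) ?_ x
  · have hy' : B (act g a) (act g y) = 0 := by rw [act_form (hA.noTrans.le_sp hg), hy]
    rw [← par_eq_pairForm hA hp hexc (act_ne_zero g hp.left_ne)
        (hp.cov_left.map hA.noTrans.le_sp hg) hy',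
      par_map hA.noTrans hp.left_ne hp.cov_left hy hg, pairForm_left hA hp hy]
  · rw [pairForm_snd hA hp]
    exact (singular_any hA hp (hp.cov_right.map hA.noTrans.le_sp hg)).resolve_right hexc

end Cfsg.Agent.Lib.LargeTransvection
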