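import Cfsg.Agent.Lib.LargeTransvection.Basic
import Cfsg.Agent.Lib.PSolvable.Core
import Mathlib

/-!
A subgroup of `O₂` of a point stabiliser that is large and free of transvections covers the point.
-/

set_option autoImplicit false

namespace Cfsg.Agent.Lib.LargeTransvection

open Matrix Cfsg.Agent.Lib.Forms Cfsg.Agent.Lib.SympMax

variable {F : Type*} [Field F] [CharP F 2] {m : ℕ}

local notation "Vs" => (Fin m ⊕ Fin m → F)
local notation "GLs" => GL (Fin m ⊕ Fin m) F
local notation "B" => Cfsg.sympForm m F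

variable {a b : Fin m ⊕ Fin m → F}

/-- A normal two-subgroup of a point stabiliser fixes the point and the radical space modulo it. -/
theorem exists_eq_el [Finite F] (hm : 2 ≤ m) (hab : B a b = 1) {H N : Subgroup GLs}
    (hH : ∀ g, g ∈ H ↔ g ∈ Cfsg.spGL m F ∧ act g a = a) (hNH : N ≤ H)
    (hnorm : ∀ h ∈ H, ∀ g ∈ N, h⁻¹ * g * h ∈ N) (hN : IsPGroup 2 N) {g : GLs} (hg : g ∈ N) :
    ∃ u β, B a u = 0 ∧ g = el a u β := by
  classical
  have hsp : ∀ g ∈ N, g ∈ Cfsg.spGL m F ∧ act g a = a := fun g hg => (hH g).1 (hNH hg)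
  have hperp : ∀ g ∈ N, ∀ w, B a w = 0 → B a (act g w) = 0 := fun g hg w hw => by
    rw [← (hsp g hg).2, act_form (hsp g hg).1, hw]
  -- a fixed point on the perpendicular plane
  obtain ⟨w₀, hw₀, hw₀a, hw₀b, hfix⟩ : ∃ w, w ≠ 0 ∧ B a w = 0 ∧ B b w = 0 ∧
      ∀ g ∈ N, proj a b (act g w) = w := by
    let W := LinearMap.ker (coord a b)
    haveI : Finite Vs := inferInstance
    haveI : Fintype W := Fintype.ofFinite W
    have hpW : ∀ x : Vs, proj a b x ∈ W := fun x => mem_ker_coord.2
      ⟨by rw [B_comm]; exact B_proj_left hab x, by rw [B_comm]; exact B_proj_right hab x⟩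
    have hW : ∀ w : W, B a (w : Vs) = 0 ∧ B b (w : Vs) = 0 := fun w =>
      ⟨by rw [B_comm]; exact (mem_ker_coord.1 w.2).1, by rw [B_comm]; exact (mem_ker_coord.1 w.2).2⟩
    letI : MulAction N W :=
      { smul := fun g w => ⟨proj a b (act g.1 w.1), hpW _⟩
        one_smul := fun w => Subtype.ext (by
          show proj a b (act (1 : GLs) w.1) = w.1
          rw [act_one, proj_of_perp (hW w).1 (hW w).2])
        mul_smul := fun g h w => Subtype.ext (by
          show proj a b (act (g.1 * h.1) w.1) = proj a b (act g.1 (proj a b (act h.1 w.1)))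
          have h1 : B (act h.1 w.1) a = 0 := by
            rw [B_comm]; exact hperp _ h.2 _ (hW w).1
          rw [act_mul, show proj a b (act h.1 w.1) = act h.1 w.1 + B (act h.1 w.1) b • a by
            simp [proj, h1], act_add, act_smul, (hsp _ g.2).2, proj_add, proj_smul,
            proj_self_left hab, smul_zero, add_zero]) }
    have hcard : 2 ∣ Nat.card W := by
      rw [Module.natCard_eq_pow_finrank (K := F), finrank_ker_coord hab]
      refine dvd_pow ?_ (by omega)
      haveI := Fintype.ofFinite F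
      rw [Nat.card_eq_fintype_card]
      exact (prime_dvd_char_iff_dvd_card (R := F) 2).1 (by rw [ringChar.eq F 2])
    have h0 : (0 : W) ∈ MulAction.fixedPoints N W := fun g => Subtype.ext (by
      show proj a b (act g.1 (0 : Vs)) = 0
      rw [act_zero]; simp [proj, zero_B])
    haveI : Fact (Nat.Prime 2) := ⟨Nat.prime_two⟩
    obtain ⟨w, hw, hw0⟩ :=
      hN.exists_fixed_point_of_prime_dvd_card_of_fixed_point W hcard h0
    exact ⟨w.1, fun e => hw0 (Subtype.ext e.symm), (hW w).1, (hW w).2, fun g hg =>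
      congrArg Subtype.val (hw ⟨g, hg⟩)⟩
  -- the stabiliser is transitive on the perpendicular plane
  have htrans : ∀ z, z ≠ 0 → B a z = 0 → B b z = 0 → ∃ h ∈ H, act h w₀ = z := by
    intro z hz hza hzb
    have step : ∀ s t : Vs, B a s = 0 → B a t = 0 → B s t ≠ 0 →
        ∃ h ∈ H, act h s = t := by
      intro s t hs ht hst
      refine ⟨T (s + t) (B s t)⁻¹, (hH _).2 ⟨T_mem _ _, ?_⟩, ?_⟩
      · rw [act_T, form_add_right, hs, ht, add_zero, mul_zero, zero_smul, add_zero]
      · rw [act_T, form_add_right, sympForm_self, zero_add, inv_mul_cancel₀ hst, one_smul,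
          ← add_assoc, add_self_vec, zero_add]
    by_cases hne : B w₀ z = 0
    · obtain ⟨y₁, hy₁a, -, hy₁⟩ := exists_partner hab hw₀ hw₀a hw₀b
      obtain ⟨y₂, hy₂a, -, hy₂⟩ := exists_partner hab hz hza hzb
      obtain ⟨y, hya, hy1, hy2⟩ : ∃ y, B a y = 0 ∧ B w₀ y ≠ 0 ∧ B y z ≠ 0 := by
        rw [B_comm] at hy₁
        by_cases e1 : B y₁ z = 0
        · by_cases e2 : B w₀ y₂ = 0
          · refine ⟨y₁ + y₂, by rw [form_add_right, hy₁a, hy₂a, add_zero], ?_, ?_⟩
            · rw [form_add_right, hy₁, e2, add_zero]; exact one_ne_zero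
            · rw [form_add_left, hy₂, e1, zero_add]; exact one_ne_zero
          · exact ⟨y₂, hy₂a, e2, by rw [hy₂]; exact one_ne_zero⟩
        · exact ⟨y₁, hy₁a, by rw [hy₁]; exact one_ne_zero, e1⟩
      obtain ⟨h₁, hh₁, e1⟩ := step w₀ y hw₀a hya hy1
      obtain ⟨h₂, hh₂, e2⟩ := step y z hya hza hy2
      exact ⟨h₂ * h₁, H.mul_mem hh₂ hh₁, by rw [act_mul, e1, e2]⟩
    · exact step w₀ z hw₀a hza hne
  have hmove : ∀ w, B a w = 0 → ∀ g ∈ N, ∃ s : F, act g w = w + s • a := by
    intro w hw g hg
    have hfix' : ∀ k ∈ N, ∃ s : F, act k w₀ = w₀ + s • a := fun k hk => by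
      refine ⟨B (act k w₀) b, ?_⟩
      have h1 : B (act k w₀) a = 0 := by rw [B_comm]; exact hperp k hk _ hw₀a
      have h2 := hfix k hk
      rw [proj, h1, zero_smul, add_zero] at h2
      have h3 := congrArg (· + B (act k w₀) b • a) h2
      simpa [add_assoc, add_self_vec] using h3
    have key : ∀ z, z ≠ 0 → B a z = 0 → B b z = 0 → ∃ s : F, act g z = z + s • a := by
      intro z hz hza hzb
      obtain ⟨h, hh, rfl⟩ := htrans z hz hza hzb
      obtain ⟨s, hs⟩ := hfix' _ (hnorm h hh g hg)
      refine ⟨s, ?_⟩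
      rw [act_mul, act_mul] at hs
      have h2 := congrArg (act h) hs
      rwa [act_self_inv, act_add, act_smul, ((hH h).1 hh).2] at h2
    have hwa : B w a = 0 := by rw [B_comm, hw]
    by_cases hz : proj a b w = 0
    · refine ⟨0, ?_⟩
      have e := eq_proj_add (a := a) (b := b) w
      rw [hz, hwa, zero_smul, zero_add, add_zero] at e
      rw [e, act_smul, (hsp g hg).2, zero_smul, add_zero]
    · obtain ⟨s, hs⟩ := key _ hz (B_proj_left hab w) (B_proj_right hab w)
      refine ⟨s, ?_⟩
      have e := eq_proj_add (a := a) (b := b) w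
      rw [hwa, zero_smul, add_zero] at e
      rw [e, act_add, hs, act_smul, (hsp g hg).2]
      abel
  obtain ⟨hgsp, hga⟩ := hsp g hg
  have hba : B b a = 1 := by rw [B_comm, hab]
  obtain ⟨u, hu⟩ : ∃ u, act g b = b + u := ⟨act g b + b, by
    rw [add_comm (act g b), ← add_assoc, add_self_vec, zero_add]⟩
  have hau : B a u = 0 := by
    have h := act_form hgsp a b
    rwa [hga, hu, form_add_right, hab, add_eq_left] at h
  refine ⟨u, B b u, hau, act_ext fun x => ?_⟩
  have hb' : act (el a u (B b u)) b = act g b := by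
    rw [act_el hau, hu, hba, one_smul, mul_one, CharTwo.add_self_eq_zero, zero_smul, add_zero]
  have hw' : ∀ w, B a w = 0 → act (el a u (B b u)) w = act g w := by
    intro w hw
    obtain ⟨s, hs⟩ := hmove w hw g hg
    have hwa : B w a = 0 := by rw [B_comm, hw]
    have h := act_form hgsp w b
    rw [hs, hu] at h
    simp only [form_add_left, form_add_right, form_smul_left, hab, hau] at h
    rw [act_el hau, hwa, hs, zero_smul, add_zero, mul_zero, add_zero]
    congr 2
    grind
  obtain ⟨w, t, hw, rfl⟩ : ∃ (w : Vs) (t : F), B a w = 0 ∧ x = w + t • b := ⟨x + B x a • b, B x a,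
    by rw [form_add_right, form_smul_right, hab, mul_one, B_comm a x, CharTwo.add_self_eq_zero],
    by rw [add_assoc, add_self_vec, add_zero]⟩
  rw [act_add, act_add, act_smul, act_smul, hb', hw' w hw]

omit [CharP F 2] in
theorem rank_T_sub_one {v : Vs} {c : F} (hv : v ≠ 0) (hc : c ≠ 0) :
    (((T v c : GLs) : Matrix (Fin m ⊕ Fin m) (Fin m ⊕ Fin m) F) - 1).rank = 1 := by
  rw [Matrix.rank]
  have e : ∀ y, (((T v c : GLs) : Matrix (Fin m ⊕ Fin m) (Fin m ⊕ Fin m) F) - 1).mulVecLin y
      = (c * B y v) • v := fun y => by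
    rw [Matrix.mulVecLin_apply, Matrix.sub_mulVec, Matrix.one_mulVec, T_mulVec, add_sub_cancel_left]
  rw [show LinearMap.range _ = F ∙ v from le_antisymm ?_ ?_, finrank_span_singleton hv]
  · rintro _ ⟨y, rfl⟩
    rw [e]; exact Submodule.smul_mem _ _ (Submodule.mem_span_singleton_self v)
  · rw [Submodule.span_le, Set.singleton_subset_iff]
    obtain ⟨y, hy⟩ := exists_eq_one hv
    exact ⟨c⁻¹ • y, by rw [e, form_smul_left, hy, mul_one, mul_inv_cancel₀ hc, one_smul]⟩

/-- A large transvection-free subgroup of the radical covers its point. -/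
theorem cov_of_le_core [Finite F] (hm : 2 ≤ m) (ha : a ≠ 0) {X L : Subgroup GLs}
    (hXO : ∀ H : Subgroup GLs, (∀ g, g ∈ H ↔ g ∈ Cfsg.spGL m F ∧ act g a = a) →
      X ≤ (Cfsg.pCore 2 H).map H.subtype)
    (hcard : Nat.card X = Nat.card F ^ (2 * m - 2))
    (hnt : ∀ x ∈ X, ((x : Matrix (Fin m ⊕ Fin m) (Fin m ⊕ Fin m) F) - 1).rank ≠ 1)
    (hXL : X ≤ L) : Cov L a := by
  classical
  obtain ⟨b, hb⟩ := exists_eq_one ha
  have hab : B a b = 1 := by rw [B_comm, hb]
  let H : Subgroup GLs :=
    { carrier := {g | g ∈ Cfsg.spGL m F ∧ act g a = a}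
      mul_mem' := fun {g h} hg hh => ⟨mul_mem hg.1 hh.1, by rw [act_mul, hh.2, hg.2]⟩
      one_mem' := ⟨one_mem _, act_one a⟩
      inv_mem' := fun {g} hg => ⟨inv_mem hg.1, by
        conv_lhs => rw [← hg.2]
        rw [act_inv_self]⟩ }
  have hH : ∀ g, g ∈ H ↔ g ∈ Cfsg.spGL m F ∧ act g a = a := fun _ => Iff.rfl
  have hX := hXO H hH
  haveI : Fact (Nat.Prime 2) := ⟨Nat.prime_two⟩
  have hN : ∀ x ∈ X, ∃ u β, B a u = 0 ∧ x = el a u β := fun x hx => by
    refine exists_eq_el hm hab hH (N := (Cfsg.pCore 2 H).map H.subtype)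
      (Subgroup.map_subtype_le _) ?_ (PSolvable.pCore_isPGroup.map _) (hX hx)
    rintro h hh _ ⟨g, hg, rfl⟩
    haveI : (Cfsg.pCore 2 H).Normal := @Subgroup.normal_of_characteristic _ _ _ PSolvable.pCore_characteristic
    exact ⟨(⟨h, hh⟩ : H)⁻¹ * g * ⟨h, hh⟩, by
      simpa using (inferInstance : (Cfsg.pCore 2 H).Normal).conj_mem g hg (⟨h, hh⟩ : H)⁻¹, rfl⟩
  let W := LinearMap.ker (coord a b)
  have hpW : ∀ x : Vs, proj a b x ∈ W := fun x => mem_ker_coord.2
    ⟨by rw [B_comm]; exact B_proj_left hab x, by rw [B_comm]; exact B_proj_right hab x⟩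
  let φ : X → W := fun x => ⟨proj a b (act x.1 b + b), hpW _⟩
  have hφval : ∀ (x : X) (u : Vs) (β : F), B a u = 0 → x.1 = el a u β →
      (φ x).1 = proj a b u := by
    intro x u β hu hx
    show proj a b (act x.1 b + b) = _
    rw [hx, act_el hu, hb, one_smul,
      show ∀ r : Vs, b + u + r + b = u + r from fun r => by
        rw [show b + u + r + b = u + r + (b + b) by abel, add_self_vec, add_zero],
      proj_add, proj_smul, proj_self_left hab, smul_zero, add_zero]
  have hinj : Function.Injective φ := by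
    intro x y hxy
    obtain ⟨u, β, hu, hx⟩ := hN x x.2
    obtain ⟨v, γ, hv, hy⟩ := hN y y.2
    have e : proj a b u = proj a b v := by
      rw [← hφval x u β hu hx, hxy, hφval y v γ hv hy]
    have hua : B u a = 0 := by rw [B_comm, hu]
    have hva : B v a = 0 := by rw [B_comm, hv]
    have huv : B a (u + v) = 0 := by rw [form_add_right, hu, hv, add_zero]
    have e' : u + v = 0 + (B u b + B v b) • a := by
      have e1 := eq_proj_add (a := a) (b := b) u
      have e2 := eq_proj_add (a := a) (b := b) v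
      rw [hua, zero_smul, add_zero, e] at e1
      rw [hva, zero_smul, add_zero] at e2
      rw [zero_add, add_smul]
      calc u + v = (proj a b v + B u b • a) + (proj a b v + B v b • a) := congrArg₂ (· + ·) e1 e2
        _ = (proj a b v + proj a b v) + (B u b • a + B v b • a) := by abel
        _ = B u b • a + B v b • a := by rw [add_self_vec, zero_add]
    have hxy' : x.1 * y.1 = T a (β + γ + B u v) := by
      rw [hx, hy, el_mul hu hv, e', el_add_smul (B_zero a), el_zero]
    have h0 : β + γ + B u v = 0 := by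
      by_contra hne
      exact hnt _ (X.mul_mem x.2 y.2) (by rw [hxy']; exact rank_T_sub_one ha hne)
    rw [h0, ← el_zero, el_zero_zero] at hxy'
    apply Subtype.ext
    rw [eq_inv_of_mul_eq_one_left hxy', hy, el_inv hv]
  haveI : Finite Vs := inferInstance
  haveI : Finite W := inferInstance
  have hsurj : Function.Surjective φ := by
    refine ((Nat.bijective_iff_injective_and_card φ).2 ⟨hinj, ?_⟩).2
    rw [hcard, Module.natCard_eq_pow_finrank (K := F) (V := W), finrank_ker_coord hab]
  intro u hu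
  obtain ⟨x, hx⟩ := hsurj ⟨proj a b u, hpW u⟩
  obtain ⟨v, β, hv, hxv⟩ := hN x x.2
  have e : proj a b v = proj a b u := by rw [← hφval x v β hv hxv, hx]
  have hua : B u a = 0 := by rw [B_comm, hu]
  have hva : B v a = 0 := by rw [B_comm, hv]
  have e' : u = v + (B v b + B u b) • a := by
    have e1 := eq_proj_add (a := a) (b := b) u
    have e2 := eq_proj_add (a := a) (b := b) v
    rw [hua, zero_smul, add_zero, ← e] at e1
    rw [hva, zero_smul, add_zero] at e2
    calc u = proj a b v + B u b • a + 0 := by rw [add_zero]; exact e1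
      _ = proj a b v + B u b • a + (B v b • a + B v b • a) := by rw [add_self_vec]
      _ = (proj a b v + B v b • a) + (B v b + B u b) • a := by rw [add_smul]; abel
      _ = v + (B v b + B u b) • a := congrArg (· + (B v b + B u b) • a) e2.symm
  refine ⟨β, ?_⟩
  rw [e', el_add_smul hv, ← hxv]
  exact hXL x.2

end Cfsg.Agent.Lib.LargeTransvection
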