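import Cfsg.Agent.Lib.LargeTransvection.Quad
import Cfsg.Agent.Lib.LargeTransvection.Radical
import Cfsg.Agent.Lib.Dickson.Invariant
import Mathlib

/-!
The subgroups of an orthogonal group in characteristic two containing the radical elements of a
hyperbolic pair.
-/

set_option autoImplicit false

namespace Cfsg.Agent.Lib.LargeTransvection

open Matrix Cfsg.Agent.Lib.Forms Cfsg.Agent.Lib.SympMax

variable {F : Type*} [Field F] [CharP F 2] {m : ℕ}

local notation "Vs" => (Fin m ⊕ Fin m → F)
local notation "GLs" => GL (Fin m ⊕ Fin m) F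
local notation "B" => Cfsg.sympForm m F

variable {Q : (Fin m ⊕ Fin m → F) → F} {a b : Fin m ⊕ Fin m → F}

/-- The bundled quadratic form. -/
def IsSympQuad.toForm (hQ : IsSympQuad Q) : QuadraticForm F (Fin m ⊕ Fin m → F) :=
  QuadraticMap.ofPolar Q
    (fun t x => by rw [hQ.map_smul, smul_eq_mul])
    (fun x x' y => by
      simp only [QuadraticMap.polar, hQ.map_add, form_add_left]; ring)
    (fun t x y => by
      simp only [QuadraticMap.polar, hQ.map_add, form_smul_left, smul_eq_mul]; ring)

omit [CharP F 2] in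
theorem IsSympQuad.coe_toForm (hQ : IsSympQuad Q) : ⇑hQ.toForm = Q := rfl

omit [CharP F 2] in
theorem IsSympQuad.polar_toForm (hQ : IsSympQuad Q) (x y : Vs) :
    QuadraticMap.polar ⇑hQ.toForm x y = B x y := by
  rw [hQ.coe_toForm]; simp only [QuadraticMap.polar, hQ.map_add]; ring

theorem IsSympQuad.nondegenerate (hQ : IsSympQuad Q) :
    (QuadraticMap.polarBilin hQ.toForm).Nondegenerate := by
  have h : ∀ x, (∀ y, B x y = 0) → x = 0 := fun x hx => by
    by_contra h0
    obtain ⟨y, hy⟩ := exists_form_ne h0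
    exact hy (hx y)
  exact ⟨fun x hx => h x fun y => by rw [← hQ.polar_toForm]; exact hx y,
    fun x hx => h x fun y => by rw [B_comm, ← hQ.polar_toForm]; exact hx y⟩

omit [CharP F 2] in
theorem mem_isometry_iff (hQ : IsSympQuad Q) {g : GLs} :
    g ∈ Cfsg.isometryGroup F ⇑hQ.toForm ↔ ∀ x, Q (act g x) = Q x :=
  ⟨fun h x => h x x, fun h x _ => h x⟩

omit [CharP F 2] in
theorem mem_spGL_of_preserves (hQ : IsSympQuad Q) {g : GLs} (h : ∀ x, Q (act g x) = Q x) :
    g ∈ Cfsg.spGL m F := fun x y => by
  show B (act g x) (act g y) = B x y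
  have e := hQ.map_add (act g x) (act g y)
  rw [← act_add, h, h, h, hQ.map_add, add_right_inj] at e
  exact e.symm

/-- Coordinates in a plane perpendicular to a hyperbolic pair. -/
theorem plane_decomp [Finite F] (hm : m = 2) (hab : B a b = 1) {u z : Vs} (hu1 : B a u = 0)
    (hu2 : B b u = 0) (hz1 : B a z = 0) (hz2 : B b z = 0) (hzu : B z u = 1) {x : Vs}
    (hx1 : B a x = 0) (hx2 : B b x = 0) : x = B x z • u + B x u • z := by
  let Φ : Vs →ₗ[F] (F × F) × (F × F) := (coord a b).prod (coord u z)
  have hΦ : ∀ y, Φ y = ((B y a, B y b), (B y u, B y z)) := fun y => by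
    simp [Φ, coord]
  have hsurj : Function.Surjective Φ := by
    rintro ⟨⟨p, q⟩, ⟨r, s⟩⟩
    refine ⟨p • b + q • a + r • z + s • u, ?_⟩
    rw [hΦ]
    simp [form_add_left, form_smul_left, sympForm_self, hab, B_comm b a, B_comm z a, B_comm z b,
      B_comm u a, B_comm u b, hu1, hu2, hz1, hz2, hzu, B_comm u z]
  have hinj : Function.Injective Φ := by
    refine (LinearMap.injective_iff_surjective_of_finrank_eq_finrank ?_).2 hsurj
    simp [Module.finrank_prod, Module.finrank_fintype_fun_eq_card, hm]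
  refine hinj ?_
  rw [hΦ, hΦ]
  simp [form_add_left, form_smul_left, sympForm_self, B_comm x a, B_comm x b, B_comm u a,
    B_comm u b, B_comm z a, B_comm z b, hx1, hx2, hu1, hu2, hz1, hz2, hzu, B_comm u z]

theorem refl_preserves (hQ : IsSympQuad Q) {v : Vs} (hv : Q v ≠ 0) (x : Vs) :
    Q (act (T v (Q v)⁻¹) x) = Q x := by
  rw [act_T, hQ.map_add, hQ.map_smul, form_smul_right]
  field_simp
  grind

omit [CharP F 2] in
theorem T_sq_one (hF : CharP F 2) (v : Vs) (c : F) : T v c * T v c = 1 := by
  refine act_ext fun x => ?_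
  have h2 : (2 : F) = 0 := CharTwo.two_eq_zero
  rw [act_mul, act_T, act_T, act_one, form_add_left, form_smul_left, sympForm_self]
  match_scalars <;> grind

theorem T_inv (v : Vs) (c : F) : (T v c)⁻¹ = T v c :=
  inv_eq_of_mul_eq_one_right (T_sq_one inferInstance v c)

theorem swap_left (hab : B a b = 1) : act (T (a + b) 1) a = b := by
  rw [act_T, form_add_right, sympForm_self, hab, zero_add, mul_one, one_smul, ← add_assoc,
    add_self_vec, zero_add]

theorem swap_right (hab : B a b = 1) : act (T (a + b) 1) b = a := by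
  rw [act_T, form_add_right, sympForm_self, B_comm b a, hab, add_zero, mul_one, one_smul,
    add_comm a b, ← add_assoc, add_self_vec, zero_add]

theorem conj_swap_mem (hab : B a b = 1) {g : GLs} (hg : g ∈ pairGroup Q a b) :
    T (a + b) 1 * g * T (a + b) 1 ∈ pairGroup Q a b := by
  induction hg using Subgroup.closure_induction with
  | mem g hg =>
    obtain ⟨u, h1, h2, hg⟩ := hg
    have hu : act (T (a + b) 1) u = u := by
      rw [act_T, form_add_right, B_comm u a, B_comm u b, h1, h2]; simp
    rcases hg with rfl | rfl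
    · nth_rewrite 2 [← T_inv]
      rw [conj_el (T_mem _ _) h1, hu, swap_left hab]
      exact el_right_mem h1 h2
    · nth_rewrite 2 [← T_inv]
      rw [conj_el (T_mem _ _) h2, hu, swap_right hab]
      exact el_left_mem h1 h2
  | one => rw [mul_one, T_sq_one inferInstance]; exact one_mem _
  | mul x y _ _ hx hy =>
    have := mul_mem hx hy
    rwa [show T (a + b) 1 * x * T (a + b) 1 * (T (a + b) 1 * y * T (a + b) 1) =
      T (a + b) 1 * x * (T (a + b) 1 * T (a + b) 1) * y * T (a + b) 1 by group,
      T_sq_one inferInstance, mul_one, mul_assoc (T (a + b) 1) x y] at this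
  | inv x _ hx =>
    have := inv_mem hx
    rwa [_root_.mul_inv_rev, _root_.mul_inv_rev, T_inv, ← mul_assoc] at this

/-- The pair group extended by the reflection exchanging the pair. -/
def extGroup (Q : (Fin m ⊕ Fin m → F) → F) (hab : Cfsg.sympForm m F a b = 1) :
    Subgroup (GL (Fin m ⊕ Fin m) F) where
  carrier := {g | g ∈ pairGroup Q a b ∨ g * T (a + b) 1 ∈ pairGroup Q a b}
  one_mem' := Or.inl (one_mem _)
  mul_mem' := by
    rintro x y (hx | hx) (hy | hy)
    · exact Or.inl (mul_mem hx hy)
    · exact Or.inr (by rw [mul_assoc]; exact mul_mem hx hy)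
    · refine Or.inr ?_
      have := mul_mem hx (conj_swap_mem hab hy)
      rwa [show x * T (a + b) 1 * (T (a + b) 1 * y * T (a + b) 1) =
        x * (T (a + b) 1 * T (a + b) 1) * y * T (a + b) 1 by group,
        T_sq_one inferInstance, mul_one] at this
    · refine Or.inl ?_
      have := mul_mem hx (conj_swap_mem hab hy)
      rwa [show x * T (a + b) 1 * (T (a + b) 1 * (y * T (a + b) 1) * T (a + b) 1) =
        x * (T (a + b) 1 * T (a + b) 1) * y * (T (a + b) 1 * T (a + b) 1) by group,
        T_sq_one inferInstance, mul_one, mul_one] at this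
  inv_mem' := by
    rintro x (hx | hx)
    · exact Or.inl (inv_mem hx)
    · refine Or.inr ?_
      have := conj_swap_mem hab (inv_mem hx)
      rwa [_root_.mul_inv_rev, T_inv, ← mul_assoc, T_sq_one inferInstance, one_mul] at this

theorem mem_extGroup (hab : B a b = 1) {g : GLs} :
    g ∈ extGroup Q hab ↔ g ∈ pairGroup Q a b ∨ g * T (a + b) 1 ∈ pairGroup Q a b := Iff.rfl

theorem swap_mem_ext (hab : B a b = 1) : T (a + b) 1 ∈ extGroup Q hab :=
  Or.inr (by rw [T_sq_one inferInstance]; exact one_mem _)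

theorem nEl_eq_refl_mul (hab : B a b = 1) {u : Vs} (h1 : B a u = 0) (h2 : B b u = 0) {α : F}
    (hα : α ≠ 0) : nEl a b u α = T u α⁻¹ * T (a + α⁻¹ • b) α := by
  obtain ⟨e1, e2, e3⟩ := act_nEl hab h1 h2 hα
  have hba : B b a = 1 := by rw [B_comm, hab]
  have hau : B u a = 0 := by rw [B_comm, h1]
  have hbu : B u b = 0 := by rw [B_comm, h2]
  refine act_ext_pair hab ?_ ?_ fun v hva hvb => ?_
  · rw [e1]
    simp only [act_mul, act_T, form_add_left, form_add_right, form_smul_left, form_smul_right,
      sympForm_self, hab, hba, h1, h2]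
    match_scalars <;> grind
  · rw [e2]
    simp only [act_mul, act_T, form_add_left, form_add_right, form_smul_left, form_smul_right,
      sympForm_self, hab, hba, h1, h2]
    match_scalars <;> grind
  · rw [e3 v hva hvb]
    have hva' : B v a = 0 := by rw [B_comm, hva]
    have hvb' : B v b = 0 := by rw [B_comm, hvb]
    simp [act_mul, form_add_right, form_smul_right, hva', hvb']

theorem exists_plane_one [Finite F] (hm : 2 ≤ m) (hQ : IsSympQuad Q) (hab : B a b = 1) :
    ∃ u, B a u = 0 ∧ B b u = 0 ∧ Q u = 1 := by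
  obtain ⟨x, hx0, hxa, hxb⟩ := exists_perp_ne_zero hm hab
  obtain ⟨y, hya, hyb, hyx⟩ := exists_partner hab hx0 hxa hxb
  obtain ⟨u, hua, hub, hu⟩ : ∃ u, B a u = 0 ∧ B b u = 0 ∧ Q u ≠ 0 := by
    by_contra hno
    push Not at hno
    have h := hno (y + x) (by rw [form_add_right, hya, hxa, add_zero])
      (by rw [form_add_right, hyb, hxb, add_zero])
    rw [hQ.map_add, hno y hya hyb, hno x hxa hxb, hyx] at h
    simp at h
  obtain ⟨c, hc⟩ := FiniteField.isSquare_of_char_two (ringChar.eq F 2) (Q u)⁻¹
  exact ⟨c • u, by rw [form_smul_right, hua, mul_zero], by rw [form_smul_right, hub, mul_zero],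
    by rw [hQ.map_smul, ← hc, inv_mul_cancel₀ hu]⟩

theorem refl_mem_ext [Finite F] (hm : 2 ≤ m) (hQ : IsSympQuad Q) (ha : Q a = 0) (hb : Q b = 0)
    (hab : B a b = 1) {v : Vs} (hv : Q v ≠ 0) : T v (Q v)⁻¹ ∈ extGroup Q hab := by
  obtain ⟨u₁, hu₁a, hu₁b, hu₁⟩ := exists_plane_one hm hQ hab
  have hn1 : T u₁ (1 : F) * T (a + b) 1 ∈ extGroup Q hab := by
    have h := nEl_mem_pairGroup hQ hu₁a hu₁b (by rw [hu₁]; exact one_ne_zero)
    rw [hu₁, nEl_eq_refl_mul hab hu₁a hu₁b one_ne_zero, inv_one, one_smul] at h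
    exact Or.inl h
  have hu₁m : T u₁ (1 : F) ∈ extGroup Q hab := by
    have h := mul_mem hn1 (swap_mem_ext (Q := Q) hab)
    rwa [mul_assoc, T_sq_one inferInstance, mul_one] at h
  -- the reflections of the hyperbolic line
  have hline : ∀ β : F, β ≠ 0 → T (a + β • b) β⁻¹ ∈ extGroup Q hab := by
    intro β hβ
    obtain ⟨c, hc⟩ := FiniteField.isSquare_of_char_two (ringChar.eq F 2) β⁻¹
    have h1 : B a (c • u₁) = 0 := by rw [form_smul_right, hu₁a, mul_zero]
    have h2 : B b (c • u₁) = 0 := by rw [form_smul_right, hu₁b, mul_zero]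
    have hQc : Q (c • u₁) = β⁻¹ := by rw [hQ.map_smul, hu₁, mul_one, hc]
    have h := nEl_mem_pairGroup hQ h1 h2 (by rw [hQc]; exact inv_ne_zero hβ)
    rw [hQc, nEl_eq_refl_mul hab h1 h2 (inv_ne_zero hβ), inv_inv, T_smul, ← hc,
      inv_mul_cancel₀ hβ] at h
    have h' := mul_mem hu₁m (show _ ∈ extGroup Q hab from Or.inl h)
    rwa [← mul_assoc, T_sq_one inferInstance, one_mul] at h'
  have hW : ∀ u, B a u = 0 → B b u = 0 → Q u ≠ 0 → T u (Q u)⁻¹ ∈ extGroup Q hab := by
    intro u h1 h2 hu
    have h := nEl_mem_pairGroup hQ h1 h2 hu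
    rw [nEl_eq_refl_mul hab h1 h2 hu] at h
    have h' := mul_mem (show _ ∈ extGroup Q hab from Or.inl h) (hline _ (inv_ne_zero hu))
    rwa [inv_inv, mul_assoc, T_sq_one inferInstance, mul_one] at h'
  obtain ⟨g, hg, hgv⟩ := exists_clear (Q := Q) hab v
  have hz : T (act g v) (Q v)⁻¹ ∈ extGroup Q hab := by
    rcases hgv with hp | ⟨h1, h2, rfl⟩
    · have e := eq_proj_add (a := a) (b := b) (act g v)
      rw [hp, zero_add] at e
      have hQz : Q v = B (act g v) b * B (act g v) a := by
        rw [← pairGroup_preserves hQ ha hb hg v]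
        conv_lhs => rw [e]
        rw [hQ.map_add, hQ.map_smul, hQ.map_smul, ha, hb, form_smul_left, form_smul_right, hab]
        ring
      have hs : B (act g v) b ≠ 0 := fun h => hv (by rw [hQz, h, zero_mul])
      have ht : B (act g v) a ≠ 0 := fun h => hv (by rw [hQz, h, mul_zero])
      have h := hline (B (act g v) a / B (act g v) b) (div_ne_zero ht hs)
      rw [show act g v = B (act g v) b • (a + (B (act g v) a / B (act g v) b) • b) by
        rw [smul_add, smul_smul, mul_div_cancel₀ _ hs]; exact e, T_smul]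
      convert h using 2
      rw [hQz]; field_simp
    · rw [act_one]
      exact hW v (by rw [B_comm, h1]) (by rw [B_comm, h2]) hv
  have hg' : g ∈ extGroup Q hab := Or.inl hg
  have h := mul_mem (mul_mem (inv_mem hg') hz) hg'
  rwa [show g⁻¹ * T (act g v) (Q v)⁻¹ * g = T v (Q v)⁻¹ by
    rw [show T (act g v) (Q v)⁻¹ = g * T v (Q v)⁻¹ * g⁻¹ from
      (conj_T (pairGroup_le_spGL hg) v _).symm]
    group] at h

theorem preserves_le_ext [Finite F] (hm : 2 ≤ m) (hQ : IsSympQuad Q) (ha : Q a = 0) (hb : Q b = 0)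
    (hab : B a b = 1) {g : GLs} (hg : g ∈ Cfsg.isometryGroup F ⇑hQ.toForm) :
    g ∈ extGroup Q hab := by
  by_cases hex : (∃ c : F, c ≠ 0 ∧ c ≠ 1) ∨ Fintype.card (Fin m ⊕ Fin m) ≠ 4
  · refine Dickson.reflections_induction (P := fun x => (x : GLs) ∈ extGroup Q hab) hQ.nondegenerate
      hex ?_ (fun x y hx hy => mul_mem hx hy) (fun v hv => ?_) ⟨g, hg⟩
    · exact one_mem _
    · have e : ((Orth.refl hQ.toForm v hv : Cfsg.isometryGroup F ⇑hQ.toForm) : GLs)
          = T v (Q v)⁻¹ := act_ext fun x => by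
        show (Orth.app (Orth.refl hQ.toForm v hv) x) = _
        rw [Orth.app_refl, act_T, hQ.polar_toForm, hQ.coe_toForm, B_comm v x, sub_eq_add_neg]
        congr 1
        ext i; simp [CharTwo.neg_eq]
      rw [e]
      exact refl_mem_ext hm hQ ha hb hab hv
  -- dimension four over two elements
  push Not at hex
  obtain ⟨hq, hcard⟩ := hex
  have hm2 : m = 2 := by simp at hcard; omega
  have hone : ∀ x : F, x ≠ 0 → x = 1 := fun x hx => hq x hx
  have hp : ∀ k : GLs, k ∈ extGroup Q hab → ∀ x, Q (act k x) = Q x := by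
    intro k hk x
    rcases hk with hk | hk
    · exact pairGroup_preserves hQ ha hb hk x
    · have h := pairGroup_preserves hQ ha hb hk (act (T (a + b) 1) x)
      rw [← act_mul, mul_assoc, T_sq_one inferInstance, mul_one] at h
      have h2 := refl_preserves hQ (v := a + b)
        (by rw [hQ.map_add, ha, hb, hab]; simp) x
      rw [hQ.map_add a b, ha, hb, hab] at h2
      simp at h2
      rw [h, ← h2]; simp
  have hgQ := (mem_isometry_iff hQ).1 hg
  have hstep : ∀ g : GLs, (∀ x, Q (act g x) = Q x) → act g a = a → act g b = b →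
      g ∈ extGroup Q hab := by
    intro g hgQ hga hgb
    have hgB := mem_spGL_of_preserves hQ hgQ
    have hgW : ∀ x, B a x = 0 → B b x = 0 → B a (act g x) = 0 ∧ B b (act g x) = 0 :=
      fun x h1 h2 => ⟨by rw [← hga, act_form hgB, h1], by rw [← hgb, act_form hgB, h2]⟩
    obtain ⟨u, hua, hub, hu⟩ := exists_plane_one hm hQ hab
    have hu0 : u ≠ 0 := fun e => by rw [e, hQ.map_zero] at hu; exact zero_ne_one hu
    obtain ⟨z, hza, hzb, hzu⟩ := exists_partner hab hu0 hua hub
    -- fix `u`
    obtain ⟨k, hk, hku, hka, hkb⟩ : ∃ k ∈ extGroup Q hab, act (k * g) u = u ∧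
        act (k * g) a = a ∧ act (k * g) b = b := by
      by_cases he : act g u = u
      · exact ⟨1, one_mem _, by rwa [one_mul], by rwa [one_mul], by rwa [one_mul]⟩
      obtain ⟨h1, h2⟩ := hgW u hua hub
      have hd := plane_decomp hm2 hab hua hub hza hzb hzu h1 h2
      have hne : B (act g u) u ≠ 0 := by
        intro e0
        rw [e0, zero_smul, add_zero] at hd
        have hz : B (act g u) z ≠ 0 := fun e1 => act_ne_zero g hu0 (by rw [hd, e1, zero_smul])
        rw [hone _ hz, one_smul] at hd
        exact he hd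
      have hQs : Q (u + act g u) = 1 := by
        rw [hQ.map_add, hgQ, hu, CharTwo.add_self_eq_zero, zero_add, B_comm, hone _ hne]
      refine ⟨T (u + act g u) 1, ?_, ?_, ?_, ?_⟩
      · have := refl_mem_ext hm hQ ha hb hab (v := u + act g u) (by rw [hQs]; exact one_ne_zero)
        rwa [hQs, inv_one] at this
      · rw [act_mul, act_T, form_add_right, sympForm_self, add_zero, hone _ hne, mul_one, one_smul,
          add_comm u, ← add_assoc, add_self_vec, zero_add]
      · rw [act_mul, hga, act_T, form_add_right, hua, h1]; simp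
      · rw [act_mul, hgb, act_T, form_add_right, hub, h2]; simp
    have hkgQ : ∀ x, Q (act (k * g) x) = Q x := fun x => by rw [act_mul, hp k hk, hgQ]
    have hkgB := mem_spGL_of_preserves hQ hkgQ
    suffices k * g ∈ extGroup Q hab by
      have := mul_mem (inv_mem hk) this
      rwa [inv_mul_cancel_left] at this
    have hd : act (k * g) z = z + B (act (k * g) z) z • u := by
      have h1 : B a (act (k * g) z) = 0 := by rw [← hka, act_form hkgB, hza]
      have h2 : B b (act (k * g) z) = 0 := by rw [← hkb, act_form hkgB, hzb]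
      have h3 := plane_decomp hm2 hab hua hub hza hzb hzu h1 h2
      have h4 : B (act (k * g) z) u = 1 := by
        conv_lhs => arg 4; rw [← hku]
        rw [act_form hkgB, hzu]
      rw [h4, one_smul, add_comm] at h3
      exact h3
    have hext : ∀ h : GLs, act h a = a → act h b = b → act h u = u →
        act h z = act (k * g) z → k * g = h := by
      intro h ea eb eu ez
      refine act_ext_pair hab (by rw [hka, ea]) (by rw [hkb, eb]) fun v hva hvb => ?_
      rw [plane_decomp hm2 hab hua hub hza hzb hzu hva hvb]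
      simp only [act_add, act_smul, hku, eu, ez]
    by_cases ht : B (act (k * g) z) z = 0
    · rw [ht, zero_smul, add_zero] at hd
      rw [hext 1 (act_one a) (act_one b) (act_one u) (by rw [act_one, hd])]
      exact one_mem _
    · rw [hone _ ht, one_smul] at hd
      have := refl_mem_ext hm hQ ha hb hab (v := u) (by rw [hu]; exact one_ne_zero)
      rw [hu, inv_one] at this
      rwa [hext (T u 1) (by rw [act_T, hua]; simp) (by rw [act_T, hub]; simp)
        (by rw [act_T, sympForm_self]; simp) (by rw [act_T, hd, hzu]; simp)]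
  have ha0 : a ≠ 0 := fun e => by rw [e, zero_B] at hab; exact zero_ne_one hab
  obtain ⟨k, hk, hka⟩ : ∃ k ∈ extGroup Q hab, act (k * g) a = a := by
    obtain ⟨k, hk, t, ht, h⟩ := exists_move_singular hQ ha hb hab (act_ne_zero g ha0)
      (by rw [hgQ, ha])
    rw [hone t ht, one_smul, one_smul, ← act_mul] at h
    rcases h with h | h
    · exact ⟨k, Or.inl hk, h⟩
    · exact ⟨T (a + b) 1 * k, mul_mem (swap_mem_ext hab) (Or.inl hk),
        by rw [mul_assoc, act_mul, h, swap_right hab]⟩
  suffices k * g ∈ extGroup Q hab by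
    have := mul_mem (inv_mem hk) this
    rwa [inv_mul_cancel_left] at this
  have hkgQ : ∀ x, Q (act (k * g) x) = Q x := fun x => by rw [act_mul, hp k hk, hgQ]
  have hkgB := mem_spGL_of_preserves hQ hkgQ
  set y := act (k * g) b
  have hy : B y a = 1 := by
    conv_lhs => arg 4; rw [← hka]
    rw [act_form hkgB, B_comm, hab]
  have h1 := B_proj_left hab y
  have h2 := B_proj_right hab y
  have hel : el a (proj a b y) (Q (proj a b y)) ∈ extGroup Q hab := Or.inl (el_left_mem h1 h2)
  have hely : act (el a (proj a b y) (Q (proj a b y))) b = y := by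
    rw [act_el_other hab h1 h2]
    have e := eq_proj_add (a := a) (b := b) y
    rw [hy, one_smul] at e
    have hQy : Q y = 0 := (hkgQ b).trans hb
    rw [e, hQ.map_add, hQ.map_add, hQ.map_smul, ha, hb, form_add_left, form_smul_left,
      form_smul_right, hab, B_comm (proj a b y) a, B_comm (proj a b y) b, h1, h2] at hQy
    simp at hQy
    rw [CharTwo.add_eq_zero.1 hQy]
    conv_rhs => rw [e]
    abel
  have hfix := hstep ((el a (proj a b y) (Q (proj a b y)))⁻¹ * (k * g))
    (fun x => by rw [act_mul, hp _ (inv_mem hel), hkgQ])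
    (by
      rw [act_mul, hka]
      conv_lhs => arg 2; rw [← act_el_center h1 (Q (proj a b y))]
      rw [act_inv_self])
    (by rw [act_mul]; change act _ y = b; conv_lhs => arg 2; rw [← hely]
        rw [act_inv_self])
  have := mul_mem hel hfix
  rwa [mul_inv_cancel_left] at this

theorem rank_el_sub_one (hab : B a b = 1) {u : Vs} (hu0 : u ≠ 0) (h1 : B a u = 0)
    (h2 : B b u = 0) (β : F) :
    (((el a u β : GLs) : Matrix (Fin m ⊕ Fin m) (Fin m ⊕ Fin m) F) - 1).rank = 2 := by
  rw [Matrix.rank]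
  have e : ∀ y, (((el a u β : GLs) : Matrix (Fin m ⊕ Fin m) (Fin m ⊕ Fin m) F) - 1).mulVecLin y
      = B y a • u + (B y u + β * B y a) • a := fun y => by
    rw [Matrix.mulVecLin_apply, Matrix.sub_mulVec, Matrix.one_mulVec]
    change act (el a u β) y - y = _
    rw [act_el h1]; abel
  obtain ⟨z, hza, hzb, hzu⟩ := exists_partner hab hu0 h1 h2
  have hli : LinearIndependent F ![u, a] := by
    refine LinearIndependent.pair_iff.2 fun s t h => ?_
    have e1 := congrArg (B · b) h
    have e2 := congrArg (B · z) h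
    simp only [form_add_left, form_smul_left, zero_B, hab, B_comm u b, h2, B_comm u z, hzu,
      hza] at e1 e2
    exact ⟨by simpa using e2, by simpa using e1⟩
  rw [show LinearMap.range _ = Submodule.span F (Set.range ![u, a]) from le_antisymm ?_ ?_,
    finrank_span_eq_card hli, Fintype.card_fin]
  · rintro _ ⟨y, rfl⟩
    rw [e, Matrix.range_cons_cons_empty]
    exact Submodule.mem_span_pair.2 ⟨_, _, rfl⟩
  · rw [Matrix.range_cons_cons_empty, Submodule.span_le, Set.insert_subset_iff,
      Set.singleton_subset_iff]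
    refine ⟨⟨b + β • z, ?_⟩, ⟨z, ?_⟩⟩
    · rw [e]
      simp only [form_add_left, form_smul_left, B_comm b a, hab, h2, hzu, B_comm z a, hza]
      match_scalars <;> grind
    · rw [e, B_comm z a, hza, hzu]; simp

/-- A group between the pair group and the isometry group is one of the two. -/
theorem eq_isometry_or_even [Finite F] (hm : 2 ≤ m) (hQ : IsSympQuad Q) (ha : Q a = 0)
    (hb : Q b = 0) (hab : B a b = 1) {L : Subgroup GLs} (hG : pairGroup Q a b ≤ L)
    (hL : ∀ g ∈ L, ∀ x, Q (act g x) = Q x) :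
    L = Cfsg.isometryGroup F ⇑hQ.toForm ∨ ∀ g : GLs, g ∈ L ↔
      (g ∈ Cfsg.isometryGroup F ⇑hQ.toForm ∧
        Even ((g : Matrix (Fin m ⊕ Fin m) (Fin m ⊕ Fin m) F) - 1).rank) := by
  have hr0 : T (a + b) 1 ∈ Cfsg.isometryGroup F ⇑hQ.toForm := (mem_isometry_iff hQ).2 fun x => by
    have h := refl_preserves hQ (v := a + b) (by rw [hQ.map_add, ha, hb, hab]; simp) x
    rwa [hQ.map_add a b, ha, hb, hab, add_zero, zero_add, inv_one] at h
  have hab0 : a + b ≠ 0 := fun e => by
    have h := congrArg (B a) e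
    rw [form_add_right, sympForm_self, hab, zero_add, B_zero] at h
    exact one_ne_zero h
  have hχ0 : ∀ g ∈ pairGroup Q a b, g ∈ Cfsg.isometryGroup F ⇑hQ.toForm ∧
      Even ((g : Matrix (Fin m ⊕ Fin m) (Fin m ⊕ Fin m) F) - 1).rank := by
    intro g hg
    suffices g ∈ (Dickson.dickson hQ.nondegenerate).ker.map
        (Cfsg.isometryGroup F ⇑hQ.toForm).subtype by
      obtain ⟨x, hx, rfl⟩ := this
      exact ⟨x.2, (neg_one_pow_eq_one_iff_even (R := ℤˣ) (by decide)).1 hx⟩
    refine (Subgroup.closure_le _).2 ?_ hg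
    have key : ∀ a b u : Vs, B a b = 1 → Q a = 0 → B a u = 0 → B b u = 0 →
        el a u (Q u) ∈ (Dickson.dickson hQ.nondegenerate).ker.map
          (Cfsg.isometryGroup F ⇑hQ.toForm).subtype := by
      intro a b u hab ha h1 h2
      refine ⟨⟨_, (mem_isometry_iff hQ).2 (el_preserves hQ ha h1)⟩, ?_, rfl⟩
      change (-1 : ℤˣ) ^ _ = 1
      refine (neg_one_pow_eq_one_iff_even (by decide)).2 ?_
      by_cases hu : u = 0
      · subst hu
        show Even ((el a 0 (Q 0) : GLs).val - 1).rank
        rw [hQ.map_zero, el_zero_zero]; simp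
      · rw [rank_el_sub_one hab hu h1 h2]; decide
    rintro _ ⟨u, h1, h2, rfl | rfl⟩
    · exact key a b u hab ha h1 h2
    · exact key b a u (by rw [B_comm, hab]) hb h2 h1
  have hodd : ∀ g : GLs, g ∈ Cfsg.isometryGroup F ⇑hQ.toForm → g * T (a + b) 1 ∈ pairGroup Q a b →
      ¬ Even ((g : Matrix (Fin m ⊕ Fin m) (Fin m ⊕ Fin m) F) - 1).rank := by
    intro g hg hgt he
    obtain ⟨-, h1⟩ := hχ0 _ hgt
    have h2 : Dickson.dickson hQ.nondegenerate (⟨g, hg⟩ * ⟨_, hr0⟩) = 1 :=
      (neg_one_pow_eq_one_iff_even (by decide)).2 h1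
    have h3 : Dickson.dickson hQ.nondegenerate ⟨g, hg⟩ = 1 :=
      (neg_one_pow_eq_one_iff_even (by decide)).2 he
    have h4 : Dickson.dickson hQ.nondegenerate ⟨_, hr0⟩ = -1 := by
      change (-1 : ℤˣ) ^ _ = -1
      rw [rank_T_sub_one hab0 one_ne_zero]; decide
    rw [map_mul, h3, h4] at h2
    exact absurd h2 (by decide)
  by_cases hr : T (a + b) 1 ∈ L
  · left
    refine le_antisymm (fun g hg => (mem_isometry_iff hQ).2 (hL g hg)) fun g hg => ?_
    rcases preserves_le_ext hm hQ ha hb hab hg with h | h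
    · exact hG h
    · have := L.mul_mem (hG h) hr
      rwa [mul_assoc, T_sq_one inferInstance, mul_one] at this
  · right
    intro g
    refine ⟨fun hg => ?_, fun ⟨hg, he⟩ => ?_⟩
    · have hgi := (mem_isometry_iff hQ).2 (hL g hg)
      rcases preserves_le_ext hm hQ ha hb hab hgi with h | h
      · exact hχ0 g h
      · refine absurd ?_ hr
        have := L.mul_mem (L.inv_mem hg) (hG h)
        rwa [inv_mul_cancel_left] at this
    · rcases preserves_le_ext hm hQ ha hb hab hg with h | h
      · exact hG h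
      · exact absurd he (hodd g hg h)

end Cfsg.Agent.Lib.LargeTransvection
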