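import Cfsg.Agent.Lib.LargeTransvection.Form
import Cfsg.Agent.Lib.LargeTransvection.Ortho
import Cfsg.Agent.Lib.SymAut.SmallIndex
import Cfsg.Agent.Lib.SymAut.SixPoints
import Cfsg.Agent.S0247
import Mathlib

/-!
The exceptional groups in dimension four over two elements.
-/

set_option autoImplicit false

namespace Cfsg.Agent.Lib.LargeTransvection

open Matrix Cfsg.Agent.Lib.Forms Cfsg.Agent.Lib.SympMax

variable {F : Type*} [Field F] [CharP F 2] [Fintype F] {m : ℕ}

local notation "Vs" => (Fin m ⊕ Fin m → F)
local notation "GLs" => GL (Fin m ⊕ Fin m) F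
local notation "B" => Cfsg.sympForm m F

/-- The conclusion over two elements. -/
def SmallConcl (L : Subgroup (GL (Fin m ⊕ Fin m) F)) : Prop :=
  L = Cfsg.spGL m F ∨ (Fintype.card F = 2 ∧ m = 2 ∧
    (Nonempty (↥L ≃* ↥(alternatingGroup (Fin 6))) ∨ Nonempty (↥L ≃* Equiv.Perm (Fin 5))))

omit [CharP F 2] in
theorem card_eq_two (hq : ¬ ∃ k : F, k ≠ 0 ∧ k ≠ 1) : Fintype.card F = 2 := by
  classical
  have hsub : (Finset.univ : Finset F) ⊆ {0, 1} := fun c _ => by
    by_cases hc0 : c = 0
    · simp [hc0]
    · by_cases hc1 : c = 1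
      · simp [hc1]
      · exact absurd ⟨c, hc0, hc1⟩ hq
  have h1 := Finset.card_le_card hsub
  rw [Finset.card_univ] at h1
  have h2 := Finset.card_le_two (a := (0 : F)) (b := 1)
  have h3 := Fintype.one_lt_card (α := F)
  omega

omit [CharP F 2] [Fintype F] in
/-- The symplectic group as a subgroup of the general linear group. -/
noncomputable def spEquiv : Matrix.symplecticGroup (Fin m) F ≃* Cfsg.spGL m F :=
  MulEquiv.ofBijective
    ((MonoidHom.toHomUnits (Matrix.symplecticGroup (Fin m) F).subtype).codRestrict (Cfsg.spGL m F)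
      fun A => mem_symplecticGroup_iff_preserves.mp A.2)
    ⟨fun A A' h => Subtype.ext (congrArg (fun g : Cfsg.spGL m F =>
      ((g : GLs) : Matrix (Fin m ⊕ Fin m) (Fin m ⊕ Fin m) F)) h),
    fun g => ⟨⟨((g : GLs) : Matrix (Fin m ⊕ Fin m) (Fin m ⊕ Fin m) F),
      mem_symplecticGroup_iff_preserves.mpr g.2⟩, Subtype.ext (Units.ext rfl)⟩⟩

variable {L : Subgroup (GL (Fin m ⊕ Fin m) F)} {a b : Fin m ⊕ Fin m → F}

/-- A transitive group with a large point stabiliser. -/
theorem smallConcl_of_transitive (hN : NoTrans L) (hm : m = 2)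
    (hq : ¬ ∃ k : F, k ≠ 0 ∧ k ≠ 1) (hp : CovPair L a b)
    (htrans : ∀ v : Vs, v ≠ 0 → ∃ g ∈ L, act g a = v)
    {g : GLs} (hg : g ∈ L) (hga : act g a = a) {w : Vs} (hwa : B a w = 0)
    (hgw : ∀ t : F, act g w ≠ w + t • a) : SmallConcl L := by
  classical
  subst hm
  have hcard := card_eq_two hq
  letI : MulAction L (Fin 2 ⊕ Fin 2 → F) :=
    { smul := fun g v => act g.1 v
      one_smul := fun v => act_one v
      mul_smul := fun g h v => act_mul g.1 h.1 v }
  have horb : MulAction.orbit L a = ({0}ᶜ : Set (Fin 2 ⊕ Fin 2 → F)) := by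
    ext v
    constructor
    · rintro ⟨g, rfl⟩
      exact act_ne_zero g.1 hp.left_ne
    · intro hv
      obtain ⟨g, hg, e⟩ := htrans v hv
      exact ⟨⟨g, hg⟩, e⟩
  have h15 : Nat.card (MulAction.orbit L a) = 15 := by
    rw [horb, Nat.card_eq_fintype_card, Fintype.card_compl_set]
    simp [hcard]
  -- the radical part of the stabiliser
  let P : Subgroup L :=
    { carrier := {x | ∃ u β, Cfsg.sympForm 2 F a u = 0 ∧ (x : GL (Fin 2 ⊕ Fin 2) F) = el a u β}
      one_mem' := ⟨0, 0, B_zero a, (el_zero_zero a).symm⟩
      mul_mem' := by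
        rintro x y ⟨u, β, hu, hx⟩ ⟨v, γ, hv, hy⟩
        exact ⟨u + v, _, by rw [form_add_right, hu, hv, add_zero],
          by rw [Subgroup.coe_mul, hx, hy, el_mul hu hv]⟩
      inv_mem' := by
        rintro x ⟨u, β, hu, hx⟩
        exact ⟨u, β, hu, by rw [Subgroup.coe_inv, hx, el_inv hu]⟩ }
  have hle : P ≤ MulAction.stabilizer L a := by
    rintro x ⟨u, β, hu, hx⟩
    show act x.1 a = a
    rw [hx, act_el_center hu]
  have hlt : P < MulAction.stabilizer L a := by
    refine lt_of_le_of_ne hle fun e => ?_
    obtain ⟨u, β, hu, hx⟩ : (⟨g, hg⟩ : L) ∈ P := e ▸ (show act g a = a from hga)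
    refine hgw (Cfsg.sympForm 2 F w u) ?_
    rw [show g = el a u β from hx, act_el_perp hu β hwa]
  have hP : Nat.card P = 4 := by
    let W := LinearMap.ker (coord a b)
    have hW : ∀ u : W, Cfsg.sympForm 2 F a u = 0 ∧ Cfsg.sympForm 2 F b u = 0 := fun u =>
      ⟨by rw [B_comm]; exact (mem_ker_coord.1 u.2).1, by rw [B_comm]; exact (mem_ker_coord.1 u.2).2⟩
    let φ : W → P := fun u =>
      ⟨⟨el a u (par L a u), par_mem hp.cov_left (hW u).1⟩, u, par L a u, (hW u).1, rfl⟩
    have hφ : Function.Bijective φ := by
      constructor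
      · intro u v huv
        obtain ⟨t, ht⟩ := el_inj hp.left_ne (hW u).1 (hW v).1
          (congrArg (fun x : P => ((x : L) : GL (Fin 2 ⊕ Fin 2) F)) huv)
        have := congrArg (proj a b) ht
        rw [proj_add, proj_smul, proj_self_left hp.form, smul_zero, add_zero,
          proj_of_perp (hW u).1 (hW u).2, proj_of_perp (hW v).1 (hW v).2] at this
        exact Subtype.ext this.symm
      · rintro ⟨x, u, β, hu, hx⟩
        have hmem : proj a b u ∈ W := mem_ker_coord.2
          ⟨by rw [B_comm]; exact B_proj_left hp.form u, by rw [B_comm]; exact B_proj_right hp.form u⟩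
        refine ⟨⟨_, hmem⟩, Subtype.ext (Subtype.ext ?_)⟩
        show el a (proj a b u) (par L a (proj a b u)) = x.1
        have hua : Cfsg.sympForm 2 F u a = 0 := by rw [B_comm, hu]
        rw [hx, show proj a b u = u + Cfsg.sympForm 2 F u b • a by simp [proj, hua],
          el_add_smul hu, par_add_smul hN hp.left_ne hp.cov_left hu,
          par_eq hN hp.left_ne hp.cov_left hu (hx ▸ x.2)]
    rw [← Nat.card_congr (Equiv.ofBijective φ hφ), Module.natCard_eq_pow_finrank (K := F),
      finrank_ker_coord hp.form, Nat.card_eq_fintype_card, hcard]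
    rfl
  obtain ⟨k, hk⟩ := Subgroup.card_dvd_of_le hle
  have hk2 : 2 ≤ k := by
    by_contra h
    have h4 : Nat.card (MulAction.stabilizer L a) ≤ Nat.card P := by
      rw [hk, hP]; interval_cases k <;> omega
    exact hlt.ne (Subgroup.eq_of_le_of_card_ge hle h4)
  have hL : Nat.card L = 15 * (4 * k) := by
    rw [← hP, ← hk, ← h15, ← Nat.card_prod]
    exact (Nat.card_congr (MulAction.orbitProdStabilizerEquivGroup L a)).symm
  obtain ⟨e⟩ := Cfsg.Agent.S0247.result hcard
  let ψ : Cfsg.spGL 2 F ≃* Equiv.Perm (Fin 6) := spEquiv.symm.trans e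
  let L' : Subgroup (Equiv.Perm (Fin 6)) := (L.subgroupOf (Cfsg.spGL 2 F)).map ψ.toMonoidHom
  have eL : L ≃* L' := (Subgroup.subgroupOfEquivOfLe hN.le_sp).symm.trans
    (Subgroup.equivMapOfInjective _ _ ψ.injective)
  have h1 := L'.card_mul_index
  rw [← Nat.card_congr eL.toEquiv, hL, Nat.card_perm, Nat.card_fin,
    show Nat.factorial 6 = 720 from rfl] at h1
  have hidx : L'.index * 2 ≤ 12 := by
    have : 12 = L'.index * k := by nlinarith
    rw [this]; exact Nat.mul_le_mul_left _ hk2
  have h6 : Nat.card (Fin 6) = 6 := Nat.card_fin 6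
  by_cases ht : L' = ⊤
  · refine Or.inl (le_antisymm hN.le_sp fun x hx => ?_)
    have : ψ ⟨x, hx⟩ ∈ L' := ht ▸ Subgroup.mem_top _
    obtain ⟨y, hy, hyx⟩ := this
    rw [ψ.injective hyx] at hy
    exact hy
  refine Or.inr ⟨hcard, rfl, ?_⟩
  by_cases hA : L' = alternatingGroup (Fin 6)
  · exact Or.inl ⟨eL.trans (MulEquiv.subgroupCongr hA)⟩
  · have := SymAut.card_le_index (by rw [h6]; omega) L' ht hA
    obtain ⟨φ, x, hx⟩ := SymAut.exists_map_stabilizer (by rw [h6]; omega) L' (by omega)
    obtain ⟨e5⟩ := SymAut.nonempty_mulEquiv_stabilizer h6 x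
    exact Or.inr ⟨eL.trans ((MulEquiv.subgroupCongr hx).trans
      ((Subgroup.equivMapOfInjective _ _ φ.injective).symm.trans e5))⟩

/-- The step along a radical element. -/
theorem orbit_step {c w : Vs} (hc : Cov L c) (hw : B c w = 0) {a v : Vs}
    (hv : ∃ g ∈ L, act g a = v) :
    ∃ g ∈ L, act g a = v + B v c • w + (B v w + par L c w * B v c) • c := by
  obtain ⟨g, hg, e⟩ := hv
  exact ⟨_, L.mul_mem (par_mem hc hw) hg, by rw [act_mul, e, act_el hw]⟩

omit [Fintype F] in
theorem forall_ne_zero_of_list (hq : ¬ ∃ k : F, k ≠ 0 ∧ k ≠ 1) {a b u z : Vs} {P : Vs → Prop}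
    (hdec : ∀ v : Vs, ∃ p q r s : F, v = p • a + q • b + r • u + s • z)
    (h : P a ∧ P b ∧ P u ∧ P z ∧ P (a + b) ∧ P (a + u) ∧ P (a + z) ∧ P (b + u) ∧ P (b + z) ∧
      P (u + z) ∧ P (a + b + u) ∧ P (a + b + z) ∧ P (a + u + z) ∧ P (b + u + z) ∧
      P (a + b + u + z)) : ∀ v : Vs, v ≠ 0 → P v := by
  intro v hv
  obtain ⟨p, q, r, s, rfl⟩ := hdec v
  rcases eq_zero_or_one hq p with rfl | rfl <;> rcases eq_zero_or_one hq q with rfl | rfl <;>
    rcases eq_zero_or_one hq r with rfl | rfl <;> rcases eq_zero_or_one hq s with rfl | rfl <;>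
    simp only [zero_smul, one_smul, zero_add, add_zero, ne_eq, not_true_eq_false] at hv ⊢ <;>
    tauto

/-- A pair with different parameters. -/
theorem smallConcl_of_differ (hN : NoTrans L) (hm : m = 2) (hq : ¬ ∃ k : F, k ≠ 0 ∧ k ≠ 1)
    (hp : CovPair L a b) {u : Vs} (hua : B a u = 0) (hub : B b u = 0) (hA : par L a u = 1)
    (hB : par L b u = 0) : SmallConcl L := by
  have ha := hp.left_ne
  have hb := hp.symm.left_ne
  have hu0 : u ≠ 0 := fun e => by
    rw [e, par_zero hN ha hp.cov_left] at hA; exact zero_ne_one hA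
  obtain ⟨z₀, hz₀a, hz₀b, hz₀u⟩ := exists_partner hp.form hu0 hua hub
  obtain ⟨z, hza, hzb, hzu, hz⟩ :
      ∃ z, B a z = 0 ∧ B b z = 0 ∧ B z u = 1 ∧ par L b z = 0 := by
    rcases eq_zero_or_one hq (par L b z₀) with h | h
    · exact ⟨z₀, hz₀a, hz₀b, hz₀u, h⟩
    · refine ⟨z₀ + u, by rw [form_add_right, hz₀a, hua, add_zero],
        by rw [form_add_right, hz₀b, hub, add_zero],
        by rw [form_add_left, hz₀u, sympForm_self, add_zero], ?_⟩
      rw [par_add hN hb hp.cov_right hz₀b hub, h, hB, hz₀u, add_zero, CharTwo.add_self_eq_zero]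
  set α := par L a z with hα
  have hab := hp.form
  have hba : B b a = 1 := by rw [B_comm, hab]
  have hua' : B u a = 0 := by rw [B_comm, hua]
  have hub' : B u b = 0 := by rw [B_comm, hub]
  have hza' : B z a = 0 := by rw [B_comm, hza]
  have hzb' : B z b = 0 := by rw [B_comm, hzb]
  have huz : B u z = 1 := by rw [B_comm, hzu]
  have huz1 : B a (u + z) = 0 := by rw [form_add_right, hua, hza, add_zero]
  have huz2 : B b (u + z) = 0 := by rw [form_add_right, hub, hzb, add_zero]
  have hfa : par L a (u + z) = α := by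
    rw [par_add hN ha hp.cov_left hua hza, hA, huz, ← hα, add_right_comm,
      CharTwo.add_self_eq_zero, zero_add]
  have hfb : par L b (u + z) = 1 := by
    rw [par_add hN hb hp.cov_right hub hzb, hB, hz, huz, zero_add, zero_add]
  let O : Vs → Prop := fun v => ∃ g ∈ L, act g a = v
  have o0 : O a := ⟨1, L.one_mem, act_one a⟩
  have step : ∀ c w : Vs, Cov L c → B c w = 0 → ∀ v t : Vs, O v →
      v + B v c • w + (B v w + par L c w * B v c) • c = t → O t :=
    fun c w hc hw v t hv e => e ▸ orbit_step hc hw hv
  have o1 : O (a + u) := by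
    refine step b u hp.cov_right hub a _ o0 ?_; simp [hab, hua, hB]
  have o2 : O (a + z) := by
    refine step b z hp.cov_right hzb a _ o0 ?_; simp [hab, hza, hz]
  have o3 : O (a + b + u + z) := by
    refine step b (u + z) hp.cov_right huz2 a _ o0 ?_
    simp only [hfb, form_add_right, hab, hua, hza]
    match_scalars <;> grind
  have o4 : O z := by
    refine step a u hp.cov_left hua _ _ o2 ?_
    simp only [hA, form_add_left, sympForm_self, hua, hza', hzu]
    match_scalars <;> grind
  have o5 : O u := by
    refine step a z hp.cov_left hza _ _ o1 ?_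
    simp only [form_add_left, sympForm_self, hza, hua', huz]
    match_scalars <;> grind
  have o6 : O (b + u) := by
    refine step b z hp.cov_right hzb _ _ o5 ?_
    simp only [hz, hub', huz]
    match_scalars <;> grind
  have o7 : O (b + z) := by
    refine step b u hp.cov_right hub _ _ o4 ?_
    simp only [hB, hzb', hzu]
    match_scalars <;> grind
  have o8 : O (a + b + z) := by
    refine step a u hp.cov_left hua _ _ o3 ?_
    simp only [hA, form_add_left, sympForm_self, hua, hub, hba, hua', hza', hzu]
    match_scalars <;> grind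
  have o9 : O (b + u + z) := by
    refine step a u hp.cov_left hua _ _ o7 ?_
    simp only [hA, form_add_left, hub, hba, hza', hzu]
    match_scalars <;> grind
  have o10 : O (u + z) := by
    refine step b u hp.cov_right hub _ _ o9 ?_
    simp only [hB, form_add_left, sympForm_self, hub, hub', hzb', hzu]
    match_scalars <;> grind
  have o11 : O (a + u + z) := by
    refine step a u hp.cov_left hua _ _ o10 ?_
    simp only [hA, form_add_left, sympForm_self, hua', hza', hzu]
    match_scalars <;> grind
  have o12 : O (a + b) := by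
    refine step a u hp.cov_left hua _ _ o6 ?_
    simp only [hA, form_add_left, sympForm_self, hba, hub, hua']
    match_scalars <;> grind
  have o13 : O b := by
    rcases eq_zero_or_one hq α with e | e
    · refine step a z hp.cov_left hza _ _ o7 ?_
      simp only [← hα, e, form_add_left, sympForm_self, hba, hzb, hza']
      match_scalars <;> grind
    · refine step a (u + z) hp.cov_left huz1 _ _ o3 ?_
      simp only [hfa, e, form_add_left, form_add_right, sympForm_self, hba, hza, hua, hub, hzb,
        hua', hza', huz, hzu]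
      match_scalars <;> grind
  have o14 : O (a + b + u) := by
    rcases eq_zero_or_one hq α with e | e
    · refine step a (u + z) hp.cov_left huz1 _ _ o7 ?_
      simp only [hfa, e, form_add_left, form_add_right, sympForm_self, hba, hub, hzb, hza', hzu]
      match_scalars <;> grind
    · refine step a z hp.cov_left hza _ _ o3 ?_
      simp only [← hα, e, form_add_left, sympForm_self, hba, hza, hzb, hua', hza', huz]
      match_scalars <;> grind
  have hdec : ∀ v : Vs, ∃ p q r s : F, v = p • a + q • b + r • u + s • z := fun v =>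
    ⟨B v b, B v a, B (proj a b v) z, B (proj a b v) u, by
      conv_lhs => rw [eq_proj_add (a := a) (b := b) v]
      conv_lhs => arg 1; arg 1; rw [plane_decomp hm hab hua hub hza hzb hzu
        (B_proj_left hab v) (B_proj_right hab v)]
      abel⟩
  have htrans := forall_ne_zero_of_list hq hdec
    (P := O) ⟨o0, o13, o5, o4, o12, o1, o2, o6, o7, o10, o14, o8, o11, o9, o3⟩
  -- the extra element of the stabiliser
  have hmem : el b u 0 * el a ((1 : F) • u) 1 ∈ L := by
    rw [one_smul]
    exact L.mul_mem (hB ▸ par_mem hp.cov_right hub) (hA ▸ par_mem hp.cov_left hua)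
  have hsq := L.mul_mem hmem hmem
  rw [sq_el_mul_el hp.symm.form hub hua, one_smul] at hsq
  have hτ := L.mul_mem (hA ▸ par_mem hp.cov_left hua : el a u 1 ∈ L) hsq
  rw [← mul_assoc, el_mul hua hua, add_self_vec, sympForm_self, add_zero, add_zero, el_zero] at hτ
  refine smallConcl_of_transitive hN hm hq hp htrans hτ ?_ hza fun t e => hu0 ?_
  · simp [act_mul, hua, sympForm_self]
  · have e' : act (T a 1 * T u 1) z = z + u := by
      simp [act_mul, hzu, form_add_left, hza', hua']
    rw [e', add_right_inj] at e
    have := congrArg (B · b) e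
    simp only [form_smul_left, hub', hab, mul_one] at this
    rw [← this, zero_smul] at e
    exact e

/-- The anisotropic exception. -/
theorem smallConcl_of_aniso (hA : Agree L) (h : AnisoExc L) : SmallConcl L := by
  obtain ⟨hm, hq, a, b, hp, hone, hc⟩ := h
  have hN := hA.noTrans
  have hab := hp.form
  have hba : B b a = 1 := by rw [B_comm, hab]
  obtain ⟨u, hu0, hua, hub⟩ := exists_perp_ne_zero (le_of_eq hm.symm) hab
  obtain ⟨z, hza, hzb, hzu⟩ := exists_partner hab hu0 hua hub
  have hua' : B u a = 0 := by rw [B_comm, hua]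
  have hub' : B u b = 0 := by rw [B_comm, hub]
  have hza' : B z a = 0 := by rw [B_comm, hza]
  have hzb' : B z b = 0 := by rw [B_comm, hzb]
  have huz : B u z = 1 := by rw [B_comm, hzu]
  have huz1 : B a (u + z) = 0 := by rw [form_add_right, hua, hza, add_zero]
  have huz2 : B b (u + z) = 0 := by rw [form_add_right, hub, hzb, add_zero]
  have hz0 : z ≠ 0 := fun e => by rw [e, zero_B] at hzu; exact zero_ne_one hzu
  have hs0 : u + z ≠ 0 := fun e => by
    have h := congrArg (B · u) e
    simp only [form_add_left, sympForm_self, hzu, zero_B, zero_add] at h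
    exact one_ne_zero h
  have fu := hone u hu0 hua hub
  have fz := hone z hz0 hza hzb
  have fs := hone (u + z) hs0 huz1 huz2
  have gu := (hA.agree a b u hp hua hub).trans fu
  have gz := (hA.agree a b z hp hza hzb).trans fz
  have gs := (hA.agree a b (u + z) hp huz1 huz2).trans fs
  let O : Vs → Prop := fun v => ∃ g ∈ L, act g a = v
  have o0 : O a := ⟨1, L.one_mem, act_one a⟩
  have step : ∀ c w : Vs, Cov L c → B c w = 0 → ∀ v t : Vs, O v →
      v + B v c • w + (B v w + par L c w * B v c) • c = t → O t :=
    fun c w hc hw v t hv e => e ▸ orbit_step hc hw hv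
  have p1 : O (a + b + u) := by
    refine step b u hp.cov_right hub _ _ o0 ?_
    simp only [gu, hab, hua]; match_scalars <;> grind
  have p2 : O (a + b + z) := by
    refine step b z hp.cov_right hzb _ _ o0 ?_
    simp only [gz, hab, hza]; match_scalars <;> grind
  have p3 : O (a + b + u + z) := by
    refine step b (u + z) hp.cov_right huz2 _ _ o0 ?_
    simp only [gs, hab, form_add_right, hua, hza]; match_scalars <;> grind
  have p4 : O b := by
    refine step a u hp.cov_left hua _ _ p1 ?_
    simp only [fu, form_add_left, sympForm_self, hba, hua, hub, hua']; match_scalars <;> grind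
  have p5 : O (a + b) := by
    have hcu : B (a + b) u = 0 := by rw [form_add_left, hua, hub, add_zero]
    have hγ := orbit_step (a := a) hc hcu o0
    rcases eq_zero_or_one hq (par L (a + b) u) with e | e
    · have q : O (a + u) := by
        convert hγ using 1
        simp only [O, e, form_add_right, sympForm_self, hab, hua]
        simp
      refine step b u hp.cov_right hub _ _ q ?_
      simp only [gu, form_add_left, sympForm_self, hab, hua, hub']; match_scalars <;> grind
    · have q : O (b + u) := by
        refine step (a + b) u hc hcu _ _ o0 ?_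
        simp only [e, form_add_right, sympForm_self, hab, hua]; match_scalars <;> grind
      refine step a u hp.cov_left hua _ _ q ?_
      simp only [fu, form_add_left, sympForm_self, hba, hub, hua']; match_scalars <;> grind
  have p6 : O (b + u) := by
    refine step a u hp.cov_left hua _ _ p5 ?_
    simp only [fu, form_add_left, sympForm_self, hba, hua, hub]; match_scalars <;> grind
  have p7 : O (b + z) := by
    refine step a z hp.cov_left hza _ _ p5 ?_
    simp only [fz, form_add_left, sympForm_self, hba, hza, hzb]; match_scalars <;> grind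
  have p8 : O (b + u + z) := by
    refine step a (u + z) hp.cov_left huz1 _ _ p5 ?_
    simp only [fs, form_add_left, form_add_right, sympForm_self, hba, hua, hub, hza, hzb]
    match_scalars <;> grind
  have p9 : O (a + u) := by
    refine step b u hp.cov_right hub _ _ p5 ?_
    simp only [gu, form_add_left, sympForm_self, hab, hua, hub]; match_scalars <;> grind
  have p10 : O (a + z) := by
    refine step b z hp.cov_right hzb _ _ p5 ?_
    simp only [gz, form_add_left, sympForm_self, hab, hza, hzb]; match_scalars <;> grind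
  have p11 : O (a + u + z) := by
    refine step b (u + z) hp.cov_right huz2 _ _ p5 ?_
    simp only [gs, form_add_left, form_add_right, sympForm_self, hab, hua, hub, hza, hzb]
    match_scalars <;> grind
  have p12 : O u := by
    refine step b z hp.cov_right hzb _ _ p6 ?_
    simp only [gz, form_add_left, sympForm_self, hub', hzb, huz]; match_scalars <;> grind
  have p13 : O z := by
    refine step b u hp.cov_right hub _ _ p7 ?_
    simp only [gu, form_add_left, sympForm_self, hzb', hub, hzu]; match_scalars <;> grind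
  have p14 : O (u + z) := by
    refine step b u hp.cov_right hub _ _ p8 ?_
    simp only [gu, form_add_left, sympForm_self, hub', hzb', hub, hzu]; match_scalars <;> grind
  have hdec : ∀ v : Vs, ∃ p q r s : F, v = p • a + q • b + r • u + s • z := fun v =>
    ⟨B v b, B v a, B (proj a b v) z, B (proj a b v) u, by
      conv_lhs => rw [eq_proj_add (a := a) (b := b) v]
      conv_lhs => arg 1; arg 1; rw [plane_decomp hm hab hua hub hza hzb hzu
        (B_proj_left hab v) (B_proj_right hab v)]
      abel⟩
  have htrans := forall_ne_zero_of_list hq hdec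
    (P := O) ⟨o0, p4, p12, p13, p5, p9, p10, p6, p7, p14, p1, p2, p11, p8, p3⟩
  have mu : nEl a b u 1 ∈ L := nEl_mem (fu ▸ par_mem hp.cov_left hua) (by
    rw [inv_one, one_smul]; exact gu ▸ par_mem hp.cov_right hub)
  have mz : nEl a b z 1 ∈ L := nEl_mem (fz ▸ par_mem hp.cov_left hza) (by
    rw [inv_one, one_smul]; exact gz ▸ par_mem hp.cov_right hzb)
  obtain ⟨a1, b1, w1⟩ := act_nEl hab hua hub (one_ne_zero (α := F))
  obtain ⟨a2, -, w2⟩ := act_nEl hab hza hzb (one_ne_zero (α := F))
  refine smallConcl_of_transitive hN hm hq hp htrans (L.mul_mem mu mz) ?_ hza fun t e => hu0 ?_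
  · rw [act_mul, a2, act_smul, b1]; simp
  · have e' : act (nEl a b u 1 * nEl a b z 1) z = z + u := by
      rw [act_mul, w2 z hza hzb, sympForm_self, mul_zero, zero_smul, add_zero, w1 z hza hzb, hzu]
      simp
    rw [e', add_right_inj] at e
    have := congrArg (B · b) e
    simp only [form_smul_left, hub', hab, mul_one] at this
    rw [← this, zero_smul] at e
    exact e

end Cfsg.Agent.Lib.LargeTransvection
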