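import Cfsg.Agent.Lib.LargeTransvection.Trans
import Cfsg.Agent.Lib.LargeTransvection.Small
import Mathlib

/-!
Irreducible symplectic groups in characteristic two with a covered point.
-/

set_option autoImplicit false

namespace Cfsg.Agent.Lib.LargeTransvection

open Matrix Cfsg.Agent.Lib.Forms Cfsg.Agent.Lib.SympMax

variable {F : Type*} [Field F] [CharP F 2] [Fintype F] {m : ℕ}

local notation "Vs" => (Fin m ⊕ Fin m → F)
local notation "GLs" => GL (Fin m ⊕ Fin m) F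
local notation "B" => Cfsg.sympForm m F

theorem classification (hm : 2 ≤ m) {L : Subgroup GLs} (hL : L ≤ Cfsg.spGL m F)
    (hirr : ∀ W : Submodule F Vs, (∀ g ∈ L, ∀ w ∈ W, act g w ∈ W) → W = ⊥ ∨ W = ⊤)
    {a : Vs} (ha : a ≠ 0) (hca : Cov L a) :
    L = Cfsg.spGL m F ∨
    (∃ Q : QuadraticForm F Vs, (∀ u v, QuadraticMap.polar ⇑Q u v = B u v) ∧
      (L = Cfsg.isometryGroup F ⇑Q ∨
        ∀ g : GLs, g ∈ L ↔ (g ∈ Cfsg.isometryGroup F ⇑Q ∧
          Even ((g : Matrix (Fin m ⊕ Fin m) (Fin m ⊕ Fin m) F) - 1).rank))) ∨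
    (Fintype.card F = 2 ∧ m = 2 ∧
      (Nonempty (↥L ≃* ↥(alternatingGroup (Fin 6))) ∨ Nonempty (↥L ≃* Equiv.Perm (Fin 5)))) := by
  by_cases hT : ∃ c : Vs, c ≠ 0 ∧ Cov L c ∧ ∃ μ : F, μ ≠ 0 ∧ T c μ ∈ L
  · obtain ⟨c, hc0, hc, μ, hμ, h⟩ := hT
    exact Or.inl (eq_spGL_of_cov_trans hm hL hirr hc0 hc hμ h)
  have hN : NoTrans L := ⟨hL, hirr, fun c hc0 hc μ h =>
    by_contra fun hμ => hT ⟨c, hc0, hc, μ, hμ, h⟩⟩
  by_cases hagree : ∀ a b u : Vs, CovPair L a b → B a u = 0 → B b u = 0 → par L b u = par L a u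
  · have hA : Agree L := ⟨hm, hN, hagree⟩
    by_cases hexc : AnisoExc L
    · exact (smallConcl_of_aniso hA hexc).elim Or.inl fun h => Or.inr (Or.inr h)
    obtain ⟨b, hp⟩ := exists_cov_partner hA ha hca
    have hQ := pairForm_isSympQuad hA hp
    refine Or.inr (Or.inl ⟨hQ.toForm, hQ.polar_toForm, ?_⟩)
    exact eq_isometry_or_even hm hQ (pairForm_fst hA hp) (pairForm_snd hA hp) hp.form
      (pairGroup_le hA hp) fun g hg => preserves_pairForm hA hp hexc hg
  · push Not at hagree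
    obtain ⟨a, b, u, hp, hu1, hu2, hne⟩ := hagree
    have hq : ¬ ∃ k : F, k ≠ 0 ∧ k ≠ 1 := fun h => hne (pair_eq hN hp (Or.inl h) hu1 hu2)
    have hm2 : m = 2 := by
      by_contra h
      exact hne (pair_eq hN hp (Or.inr (by omega)) hu1 hu2)
    suffices h : SmallConcl L from h.elim Or.inl fun h => Or.inr (Or.inr h)
    rcases eq_zero_or_one hq (par L a u) with h | h
    · rcases eq_zero_or_one hq (par L b u) with h' | h'
      · exact absurd (h'.trans h.symm) hne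
      · exact smallConcl_of_differ hN hm2 hq hp.symm hu2 hu1 h' h
    · rcases eq_zero_or_one hq (par L b u) with h' | h'
      · exact smallConcl_of_differ hN hm2 hq hp hu1 hu2 h h'
      · exact absurd (h'.trans h.symm) hne

end Cfsg.Agent.Lib.LargeTransvection
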