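import Cfsg.Agent.Lib.LargeTransvection.Basic
import Mathlib

/-!
Identities between the radical elements at the two ends of a hyperbolic pair.
-/

set_option autoImplicit false

namespace Cfsg.Agent.Lib.LargeTransvection

open Matrix Cfsg.Agent.Lib.Forms Cfsg.Agent.Lib.SympMax

variable {F : Type*} [Field F] [CharP F 2] {m : ℕ}

local notation "Vs" => (Fin m ⊕ Fin m → F)
local notation "GLs" => GL (Fin m ⊕ Fin m) F
local notation "B" => Cfsg.sympForm m F

variable {a b u : Fin m ⊕ Fin m → F}

theorem act_el_center (h : B a u = 0) (β : F) : act (el a u β) a = a := by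
  rw [act_el h, sympForm_self, h]; simp

theorem act_el_other (hab : B a b = 1) (h1 : B a u = 0) (h2 : B b u = 0) (β : F) :
    act (el a u β) b = b + u + β • a := by
  rw [act_el h1, h2, B_comm b a, hab]; simp

theorem act_el_perp (h : B a u = 0) (β : F) {v : Vs} (hv : B a v = 0) :
    act (el a u β) v = v + B v u • a := by
  rw [act_el h, B_comm v a, hv]; simp

/-- Group elements agreeing on a hyperbolic pair and on its perpendicular space are equal. -/
theorem act_ext_pair (hab : B a b = 1) {g h : GLs} (ha : act g a = act h a)
    (hb : act g b = act h b) (hw : ∀ v, B a v = 0 → B b v = 0 → act g v = act h v) : g = h := by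
  refine act_ext fun x => ?_
  rw [eq_proj_add (a := a) (b := b) x]
  simp only [act_add, act_smul, ha, hb, hw _ (B_proj_left hab x) (B_proj_right hab x)]

theorem T_mul_T_eq_el {w : Vs} (h : B a w = 0) (l μ : F) :
    T (l • a + w) μ * T w μ = el a ((μ * l) • w) (μ * (l * l)) := by
  refine act_ext fun x => ?_
  have hwa : B w a = 0 := by rw [B_comm, h]
  have h' : B a ((μ * l) • w) = 0 := by rw [form_smul_right, h, mul_zero]
  rw [act_mul, act_T, act_T, act_el h']
  simp only [form_add_left, form_add_right, form_smul_left, form_smul_right, sympForm_self, hwa]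
  match_scalars <;> grind

/-- The triple product exchanging the ends of the pair. -/
noncomputable def nEl (a b u : Vs) (α : F) : GLs :=
  el a u α * el b (α⁻¹ • u) α⁻¹ * el a u α

theorem act_nEl (hab : B a b = 1) (h1 : B a u = 0) (h2 : B b u = 0) {α : F} (hα : α ≠ 0) :
    act (nEl a b u α) a = α⁻¹ • b ∧ act (nEl a b u α) b = α • a ∧
      ∀ v, B a v = 0 → B b v = 0 → act (nEl a b u α) v = v + (α⁻¹ * B v u) • u := by
  have h3 : B b (α⁻¹ • u) = 0 := by rw [form_smul_right, h2, mul_zero]
  have hba : B b a = 1 := by rw [B_comm, hab]
  have hua : B u a = 0 := by rw [B_comm, h1]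
  have hub : B u b = 0 := by rw [B_comm, h2]
  refine ⟨?_, ?_, fun v hva hvb => ?_⟩
  · simp only [nEl, act_mul, act_el h1, act_el h3, act_add, act_smul, form_smul_right,
      form_add_left, form_smul_left, sympForm_self, hab, hba, h1, h2, hua, hub]
    match_scalars <;> grind
  · simp only [nEl, act_mul, act_el h1, act_el h3, act_add, act_smul, form_smul_right,
      form_add_left, form_smul_left, sympForm_self, hab, hba, h1, h2, hua, hub]
    match_scalars <;> grind
  · have hva' : B v a = 0 := by rw [B_comm, hva]
    have hvb' : B v b = 0 := by rw [B_comm, hvb]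
    simp only [nEl, act_mul, act_el h1, act_el h3, act_add, act_smul, form_smul_right,
      form_add_left, form_smul_left, sympForm_self, hab, hba, h1, h2, hua, hub, hva', hvb']
    match_scalars <;> grind

theorem nEl_mem {L : Subgroup GLs} {α : F} (hx : el a u α ∈ L)
    (hy : el b (α⁻¹ • u) α⁻¹ ∈ L) : nEl a b u α ∈ L :=
  L.mul_mem (L.mul_mem hx hy) hx

/-- The square of the product of radical elements with the first parameter zero. -/
theorem sq_el_mul_el (hab : B a b = 1) (h1 : B a u = 0) (h2 : B b u = 0) (k β : F) :
    el a u 0 * el b (k • u) β * (el a u 0 * el b (k • u) β) = el b (β • u) 0 * T u β := by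
  have h3 : B b (k • u) = 0 := by rw [form_smul_right, h2, mul_zero]
  have h4 : B b (β • u) = 0 := by rw [form_smul_right, h2, mul_zero]
  have hba : B b a = 1 := by rw [B_comm, hab]
  have hua : B u a = 0 := by rw [B_comm, h1]
  have hub : B u b = 0 := by rw [B_comm, h2]
  refine act_ext_pair hab ?_ ?_ fun v hva hvb => ?_
  all_goals
    try have hva' : B v a = 0 := by rw [B_comm, hva]
    try have hvb' : B v b = 0 := by rw [B_comm, hvb]
    simp only [act_mul, act_T, act_el h1, act_el h3, act_el h4, act_add, act_smul, form_smul_right,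
      form_add_left, form_smul_left, sympForm_self, hab, hba, h1, h2, hua, hub, *]
    match_scalars <;> grind

/-- The cube of the product of radical elements with inverse parameters. -/
theorem cube_el_mul_el (hab : B a b = 1) (h1 : B a u = 0) (h2 : B b u = 0) {α β : F} (k : F)
    (hαβ : α * β = 1) :
    el a u α * el b (k • u) β * (el a u α * el b (k • u) β) * (el a u α * el b (k • u) β) =
      T u (β + k * k * α) := by
  have h3 : B b (k • u) = 0 := by rw [form_smul_right, h2, mul_zero]
  have hba : B b a = 1 := by rw [B_comm, hab]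
  have hua : B u a = 0 := by rw [B_comm, h1]
  have hub : B u b = 0 := by rw [B_comm, h2]
  refine act_ext_pair hab ?_ ?_ fun v hva hvb => ?_
  all_goals
    try have hva' : B v a = 0 := by rw [B_comm, hva]
    try have hvb' : B v b = 0 := by rw [B_comm, hvb]
    simp only [act_mul, act_T, act_el h1, act_el h3, act_add, act_smul, form_smul_right,
      form_add_left, form_smul_left, sympForm_self, hab, hba, h1, h2, hua, hub, *]
    match_scalars <;> grind

/-- The commutator of perpendicular radical elements with zero parameters. -/
theorem sq_el_mul_el_perp {w : Vs} (hab : B a b = 1) (h1 : B a u = 0) (h2 : B b u = 0)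
    (hw1 : B a w = 0) (hw2 : B b w = 0) (huw : B u w = 0) :
    el a u 0 * el b w 0 * (el a u 0 * el b w 0) = E u w := by
  have hba : B b a = 1 := by rw [B_comm, hab]
  have hua : B u a = 0 := by rw [B_comm, h1]
  have hub : B u b = 0 := by rw [B_comm, h2]
  have hwa : B w a = 0 := by rw [B_comm, hw1]
  have hwb : B w b = 0 := by rw [B_comm, hw2]
  have hwu : B w u = 0 := by rw [B_comm, huw]
  have hE : ∀ y : Vs, act (E u w) y = y + B y u • w + B y w • u := E_mulVec huw
  refine act_ext_pair hab ?_ ?_ fun v hva hvb => ?_
  all_goals
    try have hva' : B v a = 0 := by rw [B_comm, hva]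
    try have hvb' : B v b = 0 := by rw [B_comm, hvb]
    simp only [act_mul, hE, act_el h1, act_el hw2, act_add, act_smul,
      form_add_left, form_smul_left, sympForm_self, hab, hba, h1, h2, hua, hub, hwa, hwb, hwu,
      huw, hw1, hw2, *]
    match_scalars <;> grind

end Cfsg.Agent.Lib.LargeTransvection
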