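import Cfsg.Agent.Lib.LargeTransvection.Moves
import Mathlib

/-!
The parameter function of a covered point in a group without transvections at covered points.
-/

set_option autoImplicit false

namespace Cfsg.Agent.Lib.LargeTransvection

open Matrix Cfsg.Agent.Lib.Forms Cfsg.Agent.Lib.SympMax

variable {F : Type*} [Field F] [CharP F 2] {m : ℕ}

local notation "Vs" => (Fin m ⊕ Fin m → F)
local notation "GLs" => GL (Fin m ⊕ Fin m) F
local notation "B" => Cfsg.sympForm m F

/-- An irreducible symplectic group without transvections at covered points. -/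
structure NoTrans (L : Subgroup (GL (Fin m ⊕ Fin m) F)) : Prop where
  le_sp : L ≤ Cfsg.spGL m F
  irred : ∀ W : Submodule F (Fin m ⊕ Fin m → F),
    (∀ g ∈ L, ∀ w ∈ W, act g w ∈ W) → W = ⊥ ∨ W = ⊤
  no_trans : ∀ c : Fin m ⊕ Fin m → F, c ≠ 0 → Cov L c → ∀ μ : F, T c μ ∈ L → μ = 0

/-- The parameter of the radical element in `L`. -/
noncomputable def par (L : Subgroup (GL (Fin m ⊕ Fin m) F)) (c u : Fin m ⊕ Fin m → F) : F :=
  Classical.epsilon fun β => el c u β ∈ L

/-- A hyperbolic pair of covered points. -/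
structure CovPair (L : Subgroup (GL (Fin m ⊕ Fin m) F)) (a b : Fin m ⊕ Fin m → F) : Prop where
  cov_left : Cov L a
  cov_right : Cov L b
  form : Cfsg.sympForm m F a b = 1

variable {L : Subgroup (GL (Fin m ⊕ Fin m) F)} {a b c u v : Fin m ⊕ Fin m → F}

omit [CharP F 2] in
theorem CovPair.left_ne (h : CovPair L a b) : a ≠ 0 := fun e => by
  have := h.form
  rw [e, zero_B] at this
  exact zero_ne_one this

theorem CovPair.symm (h : CovPair L a b) : CovPair L b a :=
  ⟨h.cov_right, h.cov_left, by rw [B_comm, h.form]⟩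

omit [CharP F 2] in
theorem par_mem (hc : Cov L c) (hu : B c u = 0) : el c u (par L c u) ∈ L :=
  Classical.epsilon_spec (hc u hu)

variable (hN : NoTrans L)
include hN

theorem par_eq (hc0 : c ≠ 0) (hc : Cov L c) (hu : B c u = 0) {β : F} (h : el c u β ∈ L) :
    par L c u = β := by
  have h2 := L.mul_mem (par_mem hc hu) h
  rw [el_mul hu hu, add_self_vec, sympForm_self, add_zero, el_zero] at h2
  exact CharTwo.add_eq_zero.1 (hN.no_trans c hc0 hc _ h2)

theorem par_zero (hc0 : c ≠ 0) (hc : Cov L c) : par L c 0 = 0 :=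
  par_eq hN hc0 hc (B_zero c) (by rw [el_zero_zero]; exact L.one_mem)

theorem par_add (hc0 : c ≠ 0) (hc : Cov L c) (hu : B c u = 0) (hv : B c v = 0) :
    par L c (u + v) = par L c u + par L c v + B u v := by
  refine par_eq hN hc0 hc (by rw [form_add_right, hu, hv, add_zero]) ?_
  rw [← el_mul hu hv]
  exact L.mul_mem (par_mem hc hu) (par_mem hc hv)

theorem par_add_smul (hc0 : c ≠ 0) (hc : Cov L c) (hu : B c u = 0) (t : F) :
    par L c (u + t • c) = par L c u := by
  refine par_eq hN hc0 hc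
    (by rw [form_add_right, form_smul_right, sympForm_self, hu, mul_zero, add_zero]) ?_
  rw [el_add_smul hu]
  exact par_mem hc hu

theorem par_map (hc0 : c ≠ 0) (hc : Cov L c) (hu : B c u = 0) {g : GLs} (hg : g ∈ L) :
    par L (act g c) (act g u) = par L c u := by
  refine par_eq hN (act_ne_zero g hc0) (hc.map hN.le_sp hg) (by rw [act_form (hN.le_sp hg), hu]) ?_
  rw [← conj_el (hN.le_sp hg) hu]
  exact L.mul_mem (L.mul_mem hg (par_mem hc hu)) (L.inv_mem hg)

theorem par_smul_left (hc0 : c ≠ 0) (hc : Cov L c) (hu : B c u = 0) {t : F} (ht : t ≠ 0) :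
    par L (t • c) u = par L c (t • u) / (t * t) := by
  refine par_eq hN (smul_ne_zero ht hc0) (hc.smul t) (by rw [form_smul_left, hu, mul_zero]) ?_
  rw [el_smul hu, mul_div_cancel₀ _ (mul_ne_zero ht ht)]
  exact par_mem hc (by rw [form_smul_right, hu, mul_zero])

/-- A group element fixing the point moves parameters invariantly. -/
theorem par_fix (hc0 : c ≠ 0) (hc : Cov L c) (hu : B c u = 0) {g : GLs} (hg : g ∈ L)
    (hgc : act g c = c) : par L c (act g u) = par L c u := by
  have := par_map hN hc0 hc hu hg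
  rwa [hgc] at this

theorem pair_shift (hp : CovPair L a b) (hu1 : B a u = 0) (hu2 : B b u = 0)
    (hu0 : u ≠ 0) {γ : F} {g : GLs} (hg : g ∈ L) (hga : act g a = a)
    (hgv : ∀ v, B a v = 0 → B b v = 0 → act g v = v + (γ * B v u) • u) (t : F) :
    par L a ((γ * t) • u) = γ * (t * t) := by
  obtain ⟨z, hza, hzb, hzu⟩ := exists_partner hp.form hu0 hu1 hu2
  have h1 : B a (t • z) = 0 := by rw [form_smul_right, hza, mul_zero]
  have h2 : B b (t • z) = 0 := by rw [form_smul_right, hzb, mul_zero]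
  have h := par_fix hN hp.left_ne hp.cov_left h1 hg hga
  rw [hgv _ h1 h2, form_smul_left, hzu, mul_one,
    par_add hN hp.left_ne hp.cov_left h1 (by rw [form_smul_right, hu1, mul_zero]),
    form_smul_left, form_smul_right, hzu, mul_one, add_assoc, add_eq_left,
    CharTwo.add_eq_zero] at h
  rw [h]; ring

theorem pair_zero (hp : CovPair L a b) (hex : ∃ k : F, k ≠ 0 ∧ k ≠ 1) (hu1 : B a u = 0)
    (hu2 : B b u = 0) (h0 : par L a u = 0) (k : F) : par L b (k • u) = 0 := by
  by_cases hu0 : u = 0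
  · rw [hu0, smul_zero]; exact par_zero hN hp.symm.left_ne hp.cov_right
  have hb : ∀ d : F, B b (d • u) = 0 := fun d => by rw [form_smul_right, hu2, mul_zero]
  have key : ∀ k t : F,
      par L b ((par L b (k • u) * t) • u) = par L b (k • u) * (t * t) := by
    intro k t
    set β := par L b (k • u)
    have hx : el a u 0 * el b (k • u) β ∈ L := L.mul_mem (h0 ▸ par_mem hp.cov_left hu1)
      (par_mem hp.cov_right (hb k))
    have hτ := L.mul_mem (par_mem hp.cov_right (hb β)) (L.mul_mem hx hx)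
    rw [sq_el_mul_el hp.form hu1 hu2, ← mul_assoc, el_mul (hb β) (hb β), add_self_vec,
      sympForm_self, add_zero, add_zero, el_zero] at hτ
    refine pair_shift hN hp.symm hu2 hu1 hu0 hτ ?_ (fun v hvb hva => ?_) t
    · simp [act_mul, hu2, sympForm_self]
    · have e1 : B v b = 0 := by rw [B_comm, hvb]
      have e2 : B u b = 0 := by rw [B_comm, hu2]
      simp [act_mul, form_add_left, form_smul_left, e1, e2]
  have key' : ∀ k : F, par L b (k • u) ≠ 0 → par L b (k • u) = k := by
    intro k hk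
    have h := key k (k / par L b (k • u))
    rw [mul_div_cancel₀ k hk] at h
    have h' : (par L b (k • u) + k) ^ 2 = 0 := by
      field_simp at h
      grind
    exact CharTwo.add_eq_zero.1 (pow_eq_zero_iff two_ne_zero |>.1 h')
  by_contra hk
  have hkk := key' k hk
  have hk0 : k ≠ 0 := fun e => hk (hkk.trans e)
  obtain ⟨c, hc0, hc1⟩ := hex
  have h := key k c
  rw [hkk] at h
  have h2 : par L b ((k * c) • u) ≠ 0 := by rw [h]; exact mul_ne_zero hk0 (mul_ne_zero hc0 hc0)
  rw [key' _ h2] at h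
  exact hc1 (mul_left_cancel₀ (mul_ne_zero hk0 hc0) (by linear_combination -h))

theorem pair_ne_zero (hp : CovPair L a b) (hex : ∃ k : F, k ≠ 0 ∧ k ≠ 1) (hu1 : B a u = 0)
    (hu2 : B b u = 0) (h0 : par L a u ≠ 0) {k : F} (hk : k ≠ 0) :
    par L a (k • u) ≠ 0 ∧ par L b (k • u) ≠ 0 := by
  have hk1 : B a (k • u) = 0 := by rw [form_smul_right, hu1, mul_zero]
  have hk2 : B b (k • u) = 0 := by rw [form_smul_right, hu2, mul_zero]
  have hb : par L b (k • u) ≠ 0 := fun e => h0 (by
    have := pair_zero hN hp.symm hex hk2 hk1 e k⁻¹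
    rwa [inv_smul_smul₀ hk] at this)
  refine ⟨fun e => hb ?_, hb⟩
  have := pair_zero hN hp hex hk1 hk2 e 1
  rwa [one_smul] at this

theorem par_line_surjective [Finite F] (hc0 : c ≠ 0) (hc : Cov L c) (hu : B c u = 0)
    (h : ∀ k : F, k ≠ 0 → par L c (k • u) ≠ 0) (y : F) : ∃ k : F, par L c (k • u) = y := by
  have hs : ∀ d : F, B c (d • u) = 0 := fun d => by rw [form_smul_right, hu, mul_zero]
  have hinj : Function.Injective fun k : F => par L c (k • u) := fun d e hde => by
    by_contra hne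
    refine h (d + e) (fun h' => hne (CharTwo.add_eq_zero.1 h')) ?_
    have hde' : par L c (d • u) = par L c (e • u) := hde
    rw [add_smul, par_add hN hc0 hc (hs d) (hs e), hde', CharTwo.add_self_eq_zero, zero_add,
      form_smul_left, form_smul_right, sympForm_self, mul_zero, mul_zero]
  exact Finite.injective_iff_surjective.1 hinj y

theorem pair_inverse [Finite F] (hp : CovPair L a b) (hex : ∃ k : F, k ≠ 0 ∧ k ≠ 1)
    (hu1 : B a u = 0) (hu2 : B b u = 0) {α : F} (hα : par L a u = α) (hα0 : α ≠ 0) :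
    par L b (α⁻¹ • u) = α⁻¹ := by
  have hne := fun (k : F) (hk : k ≠ 0) => pair_ne_zero hN hp hex hu1 hu2 (hα ▸ hα0) hk
  have hu0 : u ≠ 0 := fun e => hα0 (by rw [← hα, e, par_zero hN hp.left_ne hp.cov_left])
  obtain ⟨k, hk⟩ := par_line_surjective hN hp.symm.left_ne hp.cov_right hu2
    (fun k hk => (hne k hk).2) α⁻¹
  have hk0 : k ≠ 0 := fun e => inv_ne_zero hα0 (by
    rw [← hk, e, zero_smul, par_zero hN hp.symm.left_ne hp.cov_right])
  have hmem : el a u α * el b (k • u) α⁻¹ ∈ L := L.mul_mem (hα ▸ par_mem hp.cov_left hu1)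
    (hk ▸ par_mem hp.cov_right (by rw [form_smul_right, hu2, mul_zero]))
  have hT := L.mul_mem (L.mul_mem hmem hmem) hmem
  rw [cube_el_mul_el hp.form hu1 hu2 k (mul_inv_cancel₀ hα0)] at hT
  have hγ : α⁻¹ + k * k * α = 0 := by
    by_contra hγ
    have h := pair_shift hN hp hu1 hu2 hu0 hT
      (by rw [act_T, hu1, mul_zero, zero_smul, add_zero]) (fun v _ _ => act_T u v _)
      (α⁻¹ + k * k * α)⁻¹
    rw [mul_inv_cancel₀ hγ, one_smul, hα, ← mul_assoc, mul_inv_cancel₀ hγ, one_mul] at h
    have h1 := congrArg (·⁻¹) h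
    simp only [inv_inv] at h1
    rw [left_eq_add] at h1
    exact mul_ne_zero (mul_ne_zero hk0 hk0) hα0 h1
  have hk' : k = α⁻¹ := by
    have h : (k * α + 1) ^ 2 = 0 := by
      field_simp at hγ
      grind
    exact eq_inv_of_mul_eq_one_left (CharTwo.add_eq_zero.1 (pow_eq_zero_iff two_ne_zero |>.1 h))
  rwa [hk'] at hk

theorem pair_homog_big [Finite F] (hp : CovPair L a b) (hex : ∃ k : F, k ≠ 0 ∧ k ≠ 1)
    (hu1 : B a u = 0) (hu2 : B b u = 0) (r : F) :
    par L a (r • u) = r * r * par L a u := by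
  by_cases hr : r = 0
  · rw [hr, zero_smul, par_zero hN hp.left_ne hp.cov_left]; ring
  set α := par L a u with hα
  by_cases hα0 : α = 0
  · rw [hα0, mul_zero]
    have h1 := pair_zero hN hp hex hu1 hu2 (hα.symm.trans hα0) 1
    rw [one_smul] at h1
    exact pair_zero hN hp.symm hex hu2 hu1 h1 r
  obtain ⟨d, hd⟩ := par_line_surjective hN hp.left_ne hp.cov_left hu1
    (fun k hk => (pair_ne_zero hN hp hex hu1 hu2 hα0 hk).1) (α / r)
  have hαr : α / r ≠ 0 := div_ne_zero hα0 hr
  have hd1 : B a (d • u) = 0 := by rw [form_smul_right, hu1, mul_zero]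
  have hd2 : B b (d • u) = 0 := by rw [form_smul_right, hu2, mul_zero]
  have n1 : nEl a b u α ∈ L := nEl_mem (par_mem hp.cov_left hu1) (by
    have h := par_mem hp.cov_right (u := α⁻¹ • u) (by rw [form_smul_right, hu2, mul_zero])
    rwa [pair_inverse hN hp hex hu1 hu2 rfl hα0] at h)
  have n2 : nEl a b (d • u) (α / r) ∈ L := nEl_mem (hd ▸ par_mem hp.cov_left hd1) (by
    have h := par_mem hp.cov_right (u := (α / r)⁻¹ • d • u)
      (by rw [form_smul_right, hd2, mul_zero])
    rwa [pair_inverse hN hp hex hd1 hd2 hd hαr] at h)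
  obtain ⟨-, e2, e3⟩ := act_nEl hp.form hu1 hu2 hα0
  obtain ⟨e4, -, e6⟩ := act_nEl hp.form hd1 hd2 hαr
  have h := par_map hN hp.left_ne hp.cov_left hu1 (L.mul_mem n1 n2)
  rw [act_mul, act_mul, e4, act_smul, e2, smul_smul, e6 u hu1 hu2, form_smul_right, sympForm_self,
    mul_zero, mul_zero, zero_smul, add_zero, e3 u hu1 hu2, sympForm_self, mul_zero, zero_smul,
    add_zero, show (α / r)⁻¹ * α = r by field_simp,
    par_smul_left hN hp.left_ne hp.cov_left hu1 hr, div_eq_iff (mul_ne_zero hr hr)] at h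
  rw [h, ← hα, mul_comm]

omit hN in
theorem eq_zero_or_one (hex : ¬ ∃ k : F, k ≠ 0 ∧ k ≠ 1) (x : F) : x = 0 ∨ x = 1 := by
  by_contra h
  push Not at h
  exact hex ⟨x, h⟩

theorem pair_homog [Finite F] (hp : CovPair L a b) (hu : B a u = 0) (r : F) :
    par L a (r • u) = r * r * par L a u := by
  by_cases hex : ∃ k : F, k ≠ 0 ∧ k ≠ 1
  · have hua : B u a = 0 := by rw [B_comm, hu]
    have e := eq_proj_add (a := a) (b := b) u
    rw [hua, zero_smul, add_zero] at e
    have h1 := B_proj_left hp.form u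
    rw [e, smul_add, smul_smul, par_add_smul hN hp.left_ne hp.cov_left h1,
      par_add_smul hN hp.left_ne hp.cov_left (by rw [form_smul_right, h1, mul_zero]),
      pair_homog_big hN hp hex h1 (B_proj_right hp.form u)]
  · rcases eq_zero_or_one hex r with e | e <;>
      simp [e, par_zero hN hp.left_ne hp.cov_left]

theorem pair_eq_big [Finite F] (hp : CovPair L a b) (hex : ∃ k : F, k ≠ 0 ∧ k ≠ 1)
    (hu1 : B a u = 0) (hu2 : B b u = 0) : par L b u = par L a u := by
  by_cases hα0 : par L a u = 0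
  · rw [hα0]
    simpa using pair_zero hN hp hex hu1 hu2 hα0 1
  have h := pair_inverse hN hp hex hu1 hu2 rfl hα0
  rw [pair_homog hN hp.symm hu2] at h
  field_simp at h
  linear_combination h

theorem pair_eq [Finite F] (hp : CovPair L a b) (hbig : (∃ k : F, k ≠ 0 ∧ k ≠ 1) ∨ 3 ≤ m)
    (hu1 : B a u = 0) (hu2 : B b u = 0) : par L b u = par L a u := by
  by_cases hex : ∃ k : F, k ≠ 0 ∧ k ≠ 1
  · exact pair_eq_big hN hp hex hu1 hu2
  have hm : 3 ≤ m := hbig.resolve_left hex
  have key : ∀ a b : Vs, CovPair L a b → ∀ w, B a w = 0 → B b w = 0 →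
      par L a w = 1 → par L b w ≠ 0 := by
    intro a b hp w hw1 hw2 hA hB
    have hw0 : w ≠ 0 := fun e => by
      rw [e, par_zero hN hp.left_ne hp.cov_left] at hA; exact zero_ne_one hA
    let φ : Vs →ₗ[F] (F × F) × F := (coord a b).prod ((sympBilin m F).flip w)
    obtain ⟨y, hy, hyw⟩ : ∃ y, φ y = 0 ∧ ∀ t : F, y ≠ t • w := by
      by_contra hno
      push Not at hno
      have hle : LinearMap.ker φ ≤ F ∙ w := fun y hy => by
        obtain ⟨t, ht⟩ := hno y hy
        exact Submodule.mem_span_singleton.2 ⟨t, ht.symm⟩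
      have h1 := Submodule.finrank_mono hle
      rw [finrank_span_singleton hw0] at h1
      have h2 := φ.finrank_range_add_finrank_ker
      have h3 := Submodule.finrank_le (LinearMap.range φ)
      rw [Module.finrank_prod, Module.finrank_prod, Module.finrank_self] at h3
      rw [Module.finrank_fintype_fun_eq_card, Fintype.card_sum, Fintype.card_fin] at h2
      omega
    simp only [φ, coord, LinearMap.prod_apply, Function.prod, Prod.mk_eq_zero,
      LinearMap.BilinForm.flip_apply, sympBilin_apply, Pi.prod] at hy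
    obtain ⟨⟨hy1, hy2⟩, hy3⟩ := hy
    rw [B_comm] at hy1 hy2
    obtain ⟨x, hx1, hx2, hx3, hxw, hx0⟩ : ∃ x, B a x = 0 ∧ B b x = 0 ∧ B x w = 0 ∧
        (∀ t : F, x ≠ t • w) ∧ par L a x = 0 := by
      rcases eq_zero_or_one hex (par L a y) with h | h
      · exact ⟨y, hy1, hy2, hy3, hyw, h⟩
      · refine ⟨y + w, by rw [form_add_right, hy1, hw1, add_zero],
          by rw [form_add_right, hy2, hw2, add_zero],
          by rw [form_add_left, hy3, sympForm_self, add_zero], fun t e => hyw (t + 1) ?_, ?_⟩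
        · rw [add_smul, one_smul, ← e, add_assoc, add_self_vec, add_zero]
        · rw [par_add hN hp.left_ne hp.cov_left hy1 hw1, h, hA, hy3, add_zero,
            CharTwo.add_self_eq_zero]
    have hmem : el a x 0 * el b w 0 ∈ L :=
      L.mul_mem (hx0 ▸ par_mem hp.cov_left hx1) (hB ▸ par_mem hp.cov_right hw2)
    have hE := L.mul_mem hmem hmem
    rw [sq_el_mul_el_perp hp.form hx1 hx2 hw1 hw2 hx3] at hE
    obtain ⟨z, hza, -, hzw, hzx⟩ := exists_sep_pair hp.form hx1 hx2 hw0 hw1 hw2 hxw
    have hga : act (E x w) a = a := by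
      rw [show act (E x w) a = a + B a x • w + B a w • x from E_mulVec hx3 a, hx1, hw1]; simp
    have h := par_fix hN hp.left_ne hp.cov_left hza hE hga
    rw [show act (E x w) z = z + B z x • w + B z w • x from E_mulVec hx3 z, hzx, hzw, one_smul,
      zero_smul, add_zero, par_add hN hp.left_ne hp.cov_left hza hw1, hA, hzw, add_zero,
      add_eq_left] at h
    exact one_ne_zero h
  rcases eq_zero_or_one hex (par L a u) with h | h <;>
    rcases eq_zero_or_one hex (par L b u) with h' | h'
  · rw [h, h']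
  · exact absurd h (key b a hp.symm u hu2 hu1 h')
  · exact absurd h' (key a b hp u hu1 hu2 h)
  · rw [h, h']

end Cfsg.Agent.Lib.LargeTransvection
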