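import Cfsg.Agent.Lib.LargeTransvection.Moves
import Mathlib

/-!
An irreducible group with covered points and a transvection at one of them is the whole group.
-/

set_option autoImplicit false

namespace Cfsg.Agent.Lib.LargeTransvection

open Matrix Cfsg.Agent.Lib.Forms Cfsg.Agent.Lib.SympMax

variable {F : Type*} [Field F] [CharP F 2] {m : ℕ}

local notation "Vs" => (Fin m ⊕ Fin m → F)
local notation "GLs" => GL (Fin m ⊕ Fin m) F
local notation "B" => Cfsg.sympForm m F

theorem eq_spGL_of_cov_trans [Finite F] (hm : 2 ≤ m) {L : Subgroup GLs}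
    (hL : L ≤ Cfsg.spGL m F)
    (hirr : ∀ W : Submodule F Vs, (∀ g ∈ L, ∀ w ∈ W, act g w ∈ W) → W = ⊥ ∨ W = ⊤)
    {a : Vs} (ha : a ≠ 0) (hca : Cov L a) {μ : F} (hμ : μ ≠ 0) (hT : T a μ ∈ L) :
    L = Cfsg.spGL m F := by
  -- a partner with a transvection
  obtain ⟨b, ⟨-, hcb, μ', hμ', hTb⟩, hab⟩ := exists_partner_mem hirr
    (fun c => c ≠ 0 ∧ Cov L c ∧ ∃ ν : F, ν ≠ 0 ∧ T c ν ∈ L)
    (fun g hg c ⟨hc0, hc, ν, hν, hcν⟩ => ⟨act_ne_zero g hc0, hc.map hL hg, ν, hν, by
      rw [show T (act g c) ν = g * T c ν * g⁻¹ from (conj_T (hL hg) c ν).symm]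
      exact L.mul_mem (L.mul_mem hg hcν) (L.inv_mem hg)⟩)
    (fun t ht c ⟨hc0, hc, ν, hν, hcν⟩ => ⟨smul_ne_zero ht hc0, hc.smul t, ν / (t * t),
      div_ne_zero hν (mul_ne_zero ht ht), by
      rwa [T_smul, mul_div_cancel₀ _ (mul_ne_zero ht ht)]⟩)
    ha ⟨ha, hca, μ, hμ, hT⟩
  have hba : B b a = 1 := by rw [B_comm, hab]
  -- an element moving `a` to `a + w`
  obtain ⟨w, hw0, hwa, hwb, hwL⟩ : ∃ w, w ≠ 0 ∧ B a w = 0 ∧ B b w = 0 ∧ el b w 0 ∈ L := by
    classical
    obtain ⟨w₁, hw₁, hw₁a, hw₁b⟩ := exists_perp_ne_zero hm hab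
    have hb' : ∀ d : F, B b (d • w₁) = 0 := fun d => by rw [form_smul_right, hw₁b, mul_zero]
    choose β hβ using fun d : F => hcb (d • w₁) (hb' d)
    haveI := Fintype.ofFinite F
    let ψ : F × Bool → F := fun p => β p.1 + bif p.2 then μ' else 0
    have hψ : ∀ p, el b (p.1 • w₁) (ψ p) ∈ L := by
      rintro ⟨d, _ | _⟩
      · simpa [ψ] using hβ d
      · have : el b (d • w₁) (β d + μ') = el b (d • w₁) (β d) * el b 0 μ' := by
          rw [el_mul (hb' d) (B_zero b), B_zero, add_zero, add_zero]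
        rw [show ψ (d, true) = β d + μ' from rfl, this, el_zero]
        exact L.mul_mem (hβ d) hTb
    obtain ⟨p, q, hpq, e⟩ := Fintype.exists_ne_map_eq_of_card_lt ψ (by
      rw [Fintype.card_prod, Fintype.card_bool]
      have := Fintype.card_pos (α := F)
      omega)
    have hne : p.1 ≠ q.1 := by
      intro h1
      refine hpq (Prod.ext h1 ?_)
      rcases p with ⟨d, _ | _⟩ <;> rcases q with ⟨d', _ | _⟩ <;>
        simp_all [ψ]
    refine ⟨(p.1 + q.1) • w₁, smul_ne_zero (fun h => hne (CharTwo.add_eq_zero.1 h)) hw₁,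
      by rw [form_smul_right, hw₁a, mul_zero], hb' _, ?_⟩
    have h := L.mul_mem (hψ p) (hψ q)
    rw [el_mul (hb' _) (hb' _), ← add_smul, e, CharTwo.add_self_eq_zero, zero_add] at h
    simpa [form_smul_left, form_smul_right, sympForm_self] using h
  obtain ⟨z, hza, hzb, hzw⟩ := exists_partner hab hw0 hwa hwb
  have hwz : B w z = 1 := by rw [B_comm, hzw]
  -- the orbit of `a`
  let O : Set Vs := {v | ∃ g ∈ L, act g a = v}
  have hO : ∀ g ∈ L, ∀ v ∈ O, act g v ∈ O := fun g hg v ⟨h, hh, e⟩ =>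
    ⟨g * h, L.mul_mem hg hh, by rw [act_mul, e]⟩
  have hOT : ∀ v ∈ O, T v μ ∈ L := by
    rintro v ⟨g, hg, rfl⟩
    rw [show T (act g a) μ = g * T a μ * g⁻¹ from (conj_T (hL hg) a μ).symm]
    exact L.mul_mem (L.mul_mem hg hT) (L.inv_mem hg)
  have hla : ∀ l : F, l • a + w ∈ O := by
    intro l
    have hz : B a ((1 + l) • z) = 0 := by rw [form_smul_right, hza, mul_zero]
    obtain ⟨β, hβ⟩ := hca _ hz
    have h1 : a + w ∈ O := ⟨_, hwL, by
      rw [act_el hwb, hab, B_comm a w]; simp [B_comm w a, hwa]⟩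
    have h2 := hO _ hβ _ h1
    rw [act_el_perp hz β (by rw [form_add_right, sympForm_self, hwa, add_zero]),
      form_add_left, form_smul_right, form_smul_right, hza, hwz] at h2
    convert h2 using 1
    match_scalars <;> grind
  have hwO : w ∈ O := by simpa using hla 0
  have hnb : ∀ ν : F, ν • b + w ∈ O := by
    intro ν
    have hz : B b (ν • z) = 0 := by rw [form_smul_right, hzb, mul_zero]
    obtain ⟨β, hβ⟩ := hcb _ hz
    have h2 := hO _ hβ _ hwO
    rw [act_el_perp hz β hwb, form_smul_right, hwz, mul_one] at h2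
    rwa [add_comm]
  have hya : ∀ c : F, el a (c • w) (c * c / μ) ∈ L := by
    intro c
    have h := L.mul_mem (hOT _ (hla (c / μ))) (hOT w hwO)
    rw [T_mul_T_eq_el hwa, mul_div_cancel₀ c hμ] at h
    convert h using 2
    field_simp
  have hyb : ∀ c : F, el b (c • w) (c * c / μ) ∈ L := by
    intro c
    have h := L.mul_mem (hOT _ (hnb (c / μ))) (hOT w hwO)
    rw [T_mul_T_eq_el hwb, mul_div_cancel₀ c hμ] at h
    convert h using 2
    field_simp
  -- the exchanging elements
  have hn : ∀ c : F, c ≠ 0 → (μ / (c * c)) • b ∈ O ∧ ∀ t : F, t • b ∈ O → (t * (c * c / μ)) • a ∈ O := by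
    intro c hc
    have hα : c * c / μ ≠ 0 := div_ne_zero (mul_ne_zero hc hc) hμ
    have h1 : B a (c • w) = 0 := by rw [form_smul_right, hwa, mul_zero]
    have h2 : B b (c • w) = 0 := by rw [form_smul_right, hwb, mul_zero]
    have hmem : nEl a b (c • w) (c * c / μ) ∈ L := by
      refine nEl_mem (hya c) ?_
      convert hyb (μ / c) using 1
      rw [smul_smul]
      congr 1
      · congr 1; field_simp
      · field_simp
    obtain ⟨e1, e2, -⟩ := act_nEl hab h1 h2 hα
    refine ⟨⟨_, hmem, by rw [e1, inv_div]⟩, fun t ht => ?_⟩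
    have h := hO _ hmem _ ht
    rwa [act_smul, e2, smul_smul] at h
  have hrb : b ∈ root L := by
    intro d
    by_cases hd : d = 0
    · have : T b d = 1 := act_ext fun x => by rw [act_T, hd, act_one]; simp
      rw [this]; exact L.one_mem
    obtain ⟨s, hs⟩ := FiniteField.isSquare_of_char_two (ringChar.eq F 2) (d / μ)
    have hs0 : s ≠ 0 := fun e => div_ne_zero hd hμ (by rw [hs, e, mul_zero])
    obtain ⟨c, hc⟩ := FiniteField.isSquare_of_char_two (ringChar.eq F 2) (μ / s)
    have hc0 : c ≠ 0 := fun e => div_ne_zero hμ hs0 (by rw [hc, e, mul_zero])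
    have h := hOT _ ((hn c hc0).1)
    rw [show μ / (c * c) = s by rw [← hc]; field_simp, T_smul,
      show s * s * μ = d by rw [← hs]; field_simp] at h
    exact h
  have hra : a ∈ root L := by
    obtain ⟨c₁, hc₁⟩ := FiniteField.isSquare_of_char_two (ringChar.eq F 2) μ
    have hc₁0 : c₁ ≠ 0 := fun e => hμ (by rw [hc₁, e, mul_zero])
    obtain ⟨g, hg, hgb⟩ := (hn c₁ hc₁0).1
    rw [← hc₁, div_self hμ, one_smul] at hgb
    have := root_map hL (L.inv_mem hg) hrb
    change act g⁻¹ b ∈ root L at this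
    rwa [show act g⁻¹ b = a by rw [← hgb, act_inv_self]] at this
  have hfull : ∀ c, Cov L c → c ∈ root L → ∀ u, B c u = 0 → ∀ γ : F, el c u γ ∈ L := by
    intro c hc hr u hu γ
    obtain ⟨β, hβ⟩ := hc u hu
    have h := L.mul_mem hβ (show el c 0 (β + γ) ∈ L by rw [el_zero]; exact hr _)
    rw [el_mul hu (B_zero c), B_zero, add_zero, add_zero, ← add_assoc,
      CharTwo.add_self_eq_zero, zero_add] at h
    exact h
  have hQb := hfull b hcb hrb
  have hQa := hfull a hca hra
  refine eq_spGL hL fun v => ?_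
  have hmain : ∀ v, B v b ≠ 0 → v ∈ root L := by
    intro v hv
    let v' := (B v b)⁻¹ • v
    have hv' : B v' b = 1 := by rw [form_smul_left, inv_mul_cancel₀ hv]
    have hu : B b (proj a b v') = 0 := B_proj_right hab v'
    have h := root_map hL (hQb _ hu (B v' a)) hra
    change act (el b (proj a b v') (B v' a)) a ∈ root L at h
    rw [act_el hu, hab, one_smul, B_proj_left hab v', zero_add, mul_one] at h
    have e := eq_proj_add (a := a) (b := b) v'
    rw [hv', one_smul] at e
    rw [add_comm a, ← e] at h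
    have h2 := root_smul h (B v b)
    rwa [smul_inv_smul₀ hv] at h2
  have hmain' : ∀ v, B v a ≠ 0 → v ∈ root L := by
    intro v hv
    let v' := (B v a)⁻¹ • v
    have hv' : B v' a = 1 := by rw [form_smul_left, inv_mul_cancel₀ hv]
    have hu : B a (proj a b v') = 0 := B_proj_left hab v'
    have h := root_map hL (hQa _ hu (B v' b)) hrb
    change act (el a (proj a b v') (B v' b)) b ∈ root L at h
    rw [act_el hu, hba, one_smul, B_proj_right hab v', zero_add, mul_one] at h
    have e := eq_proj_add (a := a) (b := b) v'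
    rw [hv', one_smul] at e
    rw [show b + proj a b v' + B v' b • a = proj a b v' + B v' b • a + b by abel, ← e] at h
    have h2 := root_smul h (B v a)
    rwa [smul_inv_smul₀ hv] at h2
  by_cases h1 : B v b = 0
  · by_cases h2 : B v a = 0
    · by_cases hv : v = 0
      · subst hv
        intro c
        have : T (0 : Vs) c = 1 := act_ext fun x => by rw [act_T, act_one, B_zero]; simp
        rw [this]; exact L.one_mem
      obtain ⟨y, hya, hyb, hyv⟩ :=
        exists_partner hab hv (by rw [B_comm, h2]) (by rw [B_comm, h1])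
      have hr := root_map hL (hQb y hyb 0) (hmain' (v + b) (by
        rw [form_add_left, h2, hba, zero_add]; exact one_ne_zero))
      change act (el b y 0) (v + b) ∈ root L at hr
      rw [act_el_perp hyb 0 (by rw [form_add_right, B_comm b v, h1, sympForm_self, add_zero]),
        form_add_left, B_comm v y, hyv, hyb, add_zero, one_smul, add_assoc, add_self_vec,
        add_zero] at hr
      exact hr
    · exact hmain' v h2
  · exact hmain v h1

end Cfsg.Agent.Lib.LargeTransvection
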